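import Mathlib

/-!
Owner: helper21. Walter, field part (B): the key lemma on Sylow subgroups, the automiser of the
plane `D / Φ(D)`. A group `Γ` of invertible `2 × 2` matrices over `ZMod p` containing `diag(μ, 1)` in
which a matrix mapping the second axis to itself fixes it.
-/

set_option autoImplicit false
set_option linter.style.haveILetI false
set_option linter.unusedSectionVars false

namespace CfsgLib.Walter.Field.SylowKey.Plane

open Matrix
open scoped Pointwise

variable {p : ℕ} [Fact p.Prime]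

theorem one_add_pow {R : Type*} [Ring R] {N : R} (hN : N * N = 0) (n : ℕ) :
    (1 + N) ^ n = 1 + n • N := by
  induction n with
  | zero => simp
  | succ m ih =>
    rw [pow_succ, ih, add_mul, one_mul, mul_add, mul_one, smul_mul_assoc, hN, smul_zero, add_zero,
      succ_nsmul]
    abel

theorem sq_entries {N : Matrix (Fin 2) (Fin 2) (ZMod p)} (hN : N ^ p = 0) :
    N 1 1 = -N 0 0 ∧ N 0 0 * N 0 0 + N 0 1 * N 1 0 = 0 := by
  have hd : N 0 0 * N 1 1 - N 0 1 * N 1 0 = 0 := by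
    rw [← Matrix.det_fin_two]
    have h := congrArg Matrix.det hN
    rw [Matrix.det_pow, Matrix.det_zero] at h
    exact (pow_eq_zero_iff (Fact.out : p.Prime).ne_zero).1 h
  have h2 : N * N = (N 0 0 + N 1 1) • N := by
    ext i j
    fin_cases i <;> fin_cases j <;> simp [Matrix.mul_apply, Fin.sum_univ_two] <;>
      first
      | linear_combination (-1 : ZMod p) * hd
      | ring
  have hpow : ∀ n : ℕ, N ^ (n + 1) = (N 0 0 + N 1 1) ^ n • N := by
    intro n
    induction n with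
    | zero => simp
    | succ m ih => rw [pow_succ, ih, smul_mul_assoc, h2, smul_smul, ← pow_succ]
  have ht : N 0 0 + N 1 1 = 0 := by
    by_contra hne
    have h3 := hpow (p - 1)
    rw [Nat.sub_add_cancel (Fact.out : p.Prime).one_lt.le, hN] at h3
    rcases smul_eq_zero.1 h3.symm with h4 | h4
    · exact hne ((pow_eq_zero_iff (Nat.sub_ne_zero_of_lt (Fact.out : p.Prime).one_lt)).1 h4)
    · exact hne (by rw [h4]; simp)
  refine ⟨by linear_combination ht, ?_⟩
  linear_combination N 0 0 * ht - hd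

theorem exists_scalar {A B : Matrix (Fin 2) (Fin 2) (ZMod p)} (hA : A ≠ 0)
    (hA1 : A 1 1 = -A 0 0) (hA2 : A 0 0 * A 0 0 + A 0 1 * A 1 0 = 0)
    (hB1 : B 1 1 = -B 0 0) (hB2 : B 0 0 * B 0 0 + B 0 1 * B 1 0 = 0)
    (hτ : 2 * (A 0 0 * B 0 0) + A 0 1 * B 1 0 + A 1 0 * B 0 1 = 0) : ∃ s : ZMod p, B = s • A := by
  have e1 : A 0 0 * B 0 1 = A 0 1 * B 0 0 := by
    refine sub_eq_zero.1 (pow_eq_zero_iff two_ne_zero |>.1 ?_)
    linear_combination B 0 1 ^ 2 * hA2 + A 0 1 ^ 2 * hB2 - A 0 1 * B 0 1 * hτ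
  have e2 : A 0 0 * B 1 0 = A 1 0 * B 0 0 := by
    refine sub_eq_zero.1 (pow_eq_zero_iff two_ne_zero |>.1 ?_)
    linear_combination B 1 0 ^ 2 * hA2 + A 1 0 ^ 2 * hB2 - A 1 0 * B 1 0 * hτ
  have e3 : A 0 1 * B 1 0 = A 1 0 * B 0 1 := by
    refine sub_eq_zero.1 (pow_eq_zero_iff two_ne_zero |>.1 ?_)
    linear_combination (A 0 1 * B 1 0 + A 1 0 * B 0 1 - 2 * (A 0 0 * B 0 0)) * hτ
      + 4 * B 0 0 * B 0 0 * hA2 - 4 * A 0 1 * A 1 0 * hB2
  by_cases hb : A 0 1 = 0
  · have ha : A 0 0 = 0 := by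
      rw [hb, zero_mul, add_zero] at hA2
      exact mul_self_eq_zero.1 hA2
    have hc : A 1 0 ≠ 0 := fun hc => hA (by
      ext i j; fin_cases i <;> fin_cases j <;> simp [hb, ha, hc, hA1])
    have h0 : B 0 0 = 0 := by
      rw [ha, zero_mul] at e2
      exact (mul_eq_zero.1 e2.symm).resolve_left hc
    have h1 : B 0 1 = 0 := by
      rw [hb, zero_mul] at e3
      exact (mul_eq_zero.1 e3.symm).resolve_left hc
    refine ⟨B 1 0 / A 1 0, ?_⟩
    ext i j
    fin_cases i <;> fin_cases j <;> simp [hb, ha, hA1, hB1, h0, h1, hc]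
  · refine ⟨B 0 1 / A 0 1, ?_⟩
    ext i j
    fin_cases i <;> fin_cases j <;> simp [hA1, hB1] <;> field_simp
    · linear_combination -e1
    · linear_combination e3
    · linear_combination -e1

theorem anticomm {A B : Matrix (Fin 2) (Fin 2) (ZMod p)} (hA1 : A 1 1 = -A 0 0) (hB1 : B 1 1 = -B 0 0) :
    A * B + B * A = (2 * (A 0 0 * B 0 0) + A 0 1 * B 1 0 + A 1 0 * B 0 1) • (1 : Matrix (Fin 2) (Fin 2) (ZMod p)) := by
  ext i j
  fin_cases i <;> fin_cases j <;> simp [Matrix.mul_apply, Fin.sum_univ_two, hA1, hB1] <;> ring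

theorem sq_zero {A : Matrix (Fin 2) (Fin 2) (ZMod p)} (hA1 : A 1 1 = -A 0 0)
    (hA2 : A 0 0 * A 0 0 + A 0 1 * A 1 0 = 0) : A * A = 0 := by
  ext i j
  fin_cases i <;> fin_cases j <;> simp [Matrix.mul_apply, Fin.sum_univ_two, hA1] <;>
    first
    | linear_combination hA2
    | ring

theorem key_product {R : Type*} [Ring R] [Algebra (ZMod p) R] {A B : R} {t τ : ZMod p} (hA : A * A = 0)
    (hB : B * B = 0) (hAB : A * B + B * A = τ • (1 : R)) (ht : t * τ = -1) :
    (1 + A) * (1 + t • B) * (1 + A) * ((1 + A) * (1 + t • B) * (1 + A)) = -1 := by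
  have hBA : B * A = τ • (1 : R) - A * B := eq_sub_of_add_eq' hAB
  have hABA : A * B * A = τ • A := by
    rw [mul_assoc, hBA, mul_sub, mul_smul_comm, mul_one, ← mul_assoc, hA, zero_mul, sub_zero]
  have hw : (1 + A) * (1 + t • B) * (1 + A) = A + t • B := by
    simp only [mul_add, add_mul, one_mul, mul_one, smul_mul_assoc, mul_smul_comm, hA, hABA, hBA]
    match_scalars <;> first | ring1 | linear_combination ht
  rw [hw]
  simp only [mul_add, add_mul, smul_mul_assoc, mul_smul_comm, hA, hB, hBA, smul_sub, smul_smul, ht,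
    smul_zero]
  module

/-- The hypotheses. -/
structure Auto (p : ℕ) [Fact p.Prime] (r : ℕ) (μ : ZMod p) (Γ : Subgroup (GL (Fin 2) (ZMod p))) :
    Prop where
  p_odd : p ≠ 2
  r_prime : r.Prime
  r_odd : r ≠ 2
  μr : μ ^ r = 1
  μ1 : μ ≠ 1
  diag : ∃ d ∈ Γ, (d : Matrix (Fin 2) (Fin 2) (ZMod p)) = !![μ, 0; 0, 1]
  fix : ∀ g ∈ Γ, (g : Matrix (Fin 2) (Fin 2) (ZMod p)) 0 1 = 0 →
    (g : Matrix (Fin 2) (Fin 2) (ZMod p)) 1 1 = 1

namespace Auto

variable {r : ℕ} {μ : ZMod p} {Γ : Subgroup (GL (Fin 2) (ZMod p))} (h : Auto p r μ Γ)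
include h

theorem neg_one_not {g : GL (Fin 2) (ZMod p)} (hg : g ∈ Γ)
    (he : (g : Matrix (Fin 2) (Fin 2) (ZMod p)) = -1) : False := by
  have h1 := h.fix g hg (by rw [he]; simp)
  rw [he] at h1
  simp at h1
  have h2 : ((2 : ℕ) : ZMod p) = 0 := by push_cast; linear_combination -h1
  exact h.p_odd ((Nat.prime_dvd_prime_iff_eq Fact.out Nat.prime_two).1
    ((ZMod.natCast_eq_zero_iff 2 p).1 h2))

theorem mem_zpowers_of_order {u v : GL (Fin 2) (ZMod p)} (hu : u ∈ Γ) (hv : v ∈ Γ)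
    (hup : orderOf u = p) (hvp : v ^ p = 1) : v ∈ Subgroup.zpowers u := by
  have hnil : ∀ g : GL (Fin 2) (ZMod p), g ^ p = 1 →
      ((g : Matrix (Fin 2) (Fin 2) (ZMod p)) - 1) ^ p = 0 := fun g hg => by
    rw [sub_pow_char_of_commute p (Commute.one_right _), one_pow, ← Units.val_pow_eq_pow_val, hg,
      Units.val_one, sub_self]
  set A := (u : Matrix (Fin 2) (Fin 2) (ZMod p)) - 1 with hAd
  set B := (v : Matrix (Fin 2) (Fin 2) (ZMod p)) - 1 with hBd
  obtain ⟨hA1, hA2⟩ := sq_entries (hnil u (orderOf_dvd_iff_pow_eq_one.1 (dvd_of_eq hup)))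
  obtain ⟨hB1, hB2⟩ := sq_entries (hnil v hvp)
  have hA : A ≠ 0 := fun h0 => (Fact.out : p.Prime).one_lt.ne' (by
    rw [← hup, orderOf_eq_one_iff]
    exact Units.ext (sub_eq_zero.1 h0))
  have hAA := sq_zero hA1 hA2
  have hBB := sq_zero hB1 hB2
  have hu1 : (u : Matrix (Fin 2) (Fin 2) (ZMod p)) = 1 + A := by rw [hAd]; abel
  have hv1 : (v : Matrix (Fin 2) (Fin 2) (ZMod p)) = 1 + B := by rw [hBd]; abel
  by_cases hτ : 2 * (A 0 0 * B 0 0) + A 0 1 * B 1 0 + A 1 0 * B 0 1 = 0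
  · obtain ⟨s, hs⟩ := exists_scalar hA hA1 hA2 hB1 hB2 hτ
    refine Subgroup.mem_zpowers_iff.2 ⟨(s.val : ℤ), Units.ext ?_⟩
    rw [zpow_natCast, Units.val_pow_eq_pow_val, hu1, one_add_pow hAA, hv1, ← Nat.cast_smul_eq_nsmul (ZMod p),
      ZMod.natCast_zmod_val]
    exact (congrArg (1 + ·) hs).symm
  · exfalso
    set τ := 2 * (A 0 0 * B 0 0) + A 0 1 * B 1 0 + A 1 0 * B 0 1 with hτd
    set t : ZMod p := -τ⁻¹ with htd
    refine h.neg_one_not (g := u * v ^ t.val * u * (u * v ^ t.val * u))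
      (mul_mem (mul_mem (mul_mem hu (pow_mem hv _)) hu) (mul_mem (mul_mem hu (pow_mem hv _)) hu)) ?_
    simp only [Units.val_mul, Units.val_pow_eq_pow_val]
    rw [hu1, hv1, one_add_pow hBB, ← Nat.cast_smul_eq_nsmul (ZMod p), ZMod.natCast_zmod_val]
    exact key_product hAA hBB (anticomm hA1 hB1) (by rw [htd, neg_mul, inv_mul_cancel₀ hτ])

/-- The Sylow `p`-subgroup is normal. -/
theorem subsingleton_sylow : Subsingleton (Sylow p Γ) := by
  have hpq : ¬ p ^ 2 ∣ Nat.card (GL (Fin 2) (ZMod p)) := fun hd => by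
    have hc := Matrix.card_GL_field (𝔽 := ZMod p) 2
    rw [Fin.prod_univ_two, ZMod.card] at hc
    have hp := (Fact.out : p.Prime).two_le
    have e1 : p ^ 2 - p ^ ((1 : Fin 2) : ℕ) = p * (p - 1) := by
      rw [Fin.val_one, pow_one, Nat.mul_sub, mul_one, ← sq]
    rw [hc, e1, Fin.val_zero, pow_zero, mul_comm, mul_assoc, sq] at hd
    have h1 := Nat.dvd_of_mul_dvd_mul_left (Fact.out : p.Prime).pos hd
    rcases (Fact.out : p.Prime).dvd_mul.1 h1 with h2 | h2
    · exact absurd (Nat.le_of_dvd (by omega) h2) (by omega)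
    · have h3 : p ∣ p * p := dvd_mul_left p p
      have h4 : 1 ≤ p * p := Nat.one_le_iff_ne_zero.2 (mul_ne_zero (by omega) (by omega))
      have h5 := Nat.dvd_sub h3 h2
      rw [Nat.sub_sub_self h4] at h5
      exact absurd (Nat.le_of_dvd one_pos h5) (by omega)
  refine ⟨fun P Q => ?_⟩
  have hcard : ∀ R : Sylow p Γ, Nat.card (R : Subgroup Γ) ∣ p := fun R => by
    obtain ⟨k, hk⟩ := IsPGroup.iff_card.1 R.isPGroup'
    rw [hk]
    rcases k with - | - | j
    · simp
    · simp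
    · exact absurd ((pow_dvd_pow p (by omega : 2 ≤ j + 1 + 1)).trans
        (hk ▸ (Subgroup.card_subgroup_dvd_card _).trans (Subgroup.card_subgroup_dvd_card Γ))) hpq
  suffices hle : ∀ R S : Sylow p Γ, (R : Subgroup Γ) ≤ S from Sylow.ext (le_antisymm (hle P Q) (hle Q P))
  intro R S x hx
  have hRS : Nat.card (S : Subgroup Γ) = Nat.card (R : Subgroup Γ) := by
    rw [S.card_eq_multiplicity, R.card_eq_multiplicity]
  rcases (Nat.dvd_prime Fact.out).1 (hcard S) with h1 | h1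
  · rw [h1] at hRS
    rw [Subgroup.eq_bot_of_card_eq _ hRS.symm, Subgroup.mem_bot] at hx
    rw [hx]; exact one_mem _
  · obtain ⟨⟨u, huS⟩, hu⟩ := exists_prime_orderOf_dvd_card' p (dvd_of_eq h1.symm)
    have hu' : orderOf (u : GL (Fin 2) (ZMod p)) = p :=
      (Subgroup.orderOf_coe u).trans ((Subgroup.orderOf_mk u huS).symm.trans hu)
    have hxp : x ^ p = 1 := by
      have h2 : (⟨x, hx⟩ : (R : Subgroup Γ)) ^ Nat.card (R : Subgroup Γ) = 1 := pow_card_eq_one'
      rw [← hRS, h1] at h2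
      exact congrArg Subtype.val h2
    obtain ⟨i, hi⟩ := Subgroup.mem_zpowers_iff.1 (h.mem_zpowers_of_order u.2 x.2 hu'
      (by rw [← Subgroup.coe_pow, hxp, Subgroup.coe_one]))
    rw [show x = u ^ i from Subtype.ext (by rw [Subgroup.coe_zpow]; exact hi.symm)]
    exact zpow_mem huS i

theorem commute_diag {g : GL (Fin 2) (ZMod p)} (hg : g ∈ Γ) {d : GL (Fin 2) (ZMod p)}
    (hd : (d : Matrix (Fin 2) (Fin 2) (ZMod p)) = !![μ, 0; 0, 1]) (hc : g * d = d * g) :
    (g : Matrix (Fin 2) (Fin 2) (ZMod p)) 0 1 = 0 ∧ (g : Matrix (Fin 2) (Fin 2) (ZMod p)) 1 0 = 0 ∧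
      (g : Matrix (Fin 2) (Fin 2) (ZMod p)) 1 1 = 1 := by
  have h1 := congrArg Units.val hc
  rw [Units.val_mul, Units.val_mul, hd] at h1
  have h01 := congrFun (congrFun h1 0) 1
  have h10 := congrFun (congrFun h1 1) 0
  simp [Matrix.mul_apply, Fin.sum_univ_two] at h01 h10
  have hμ : μ - 1 ≠ 0 := sub_ne_zero.2 h.μ1
  have e01 : (g : Matrix (Fin 2) (Fin 2) (ZMod p)) 0 1 = 0 := by
    refine (mul_eq_zero.1 (?_ : (μ - 1) * _ = 0)).resolve_left hμ
    linear_combination -h01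
  refine ⟨e01, (mul_eq_zero.1 (?_ : (μ - 1) * _ = 0)).resolve_left hμ, h.fix g hg e01⟩
  linear_combination h10

/-- Without elements of order `p`, every element fixes the second coordinate. -/
theorem second_row (hp : ¬ p ∣ Nat.card Γ) {g : GL (Fin 2) (ZMod p)} (hg : g ∈ Γ) :
    (g : Matrix (Fin 2) (Fin 2) (ZMod p)) 1 0 = 0 ∧ (g : Matrix (Fin 2) (Fin 2) (ZMod p)) 1 1 = 1 := by
  obtain ⟨d, hdΓ, hd⟩ := h.diag
  haveI : Fact r.Prime := ⟨h.r_prime⟩
  have hp1 : ∀ x : GL (Fin 2) (ZMod p), x ∈ Γ → x ^ p = 1 → x = 1 := fun x hx hxp => by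
    rcases (Nat.dvd_prime Fact.out).1 (orderOf_dvd_of_pow_eq_one hxp) with h1 | h1
    · exact orderOf_eq_one_iff.1 h1
    · have h2 := orderOf_dvd_natCard (⟨x, hx⟩ : Γ)
      rw [Subgroup.orderOf_mk] at h2
      exact absurd ((dvd_of_eq h1.symm).trans h2) hp
  let T : Subgroup (GL (Fin 2) (ZMod p)) := Γ ⊓ Matrix.GeneralLinearGroup.det.ker
  have hTdet : ∀ τ ∈ T, (τ : Matrix (Fin 2) (Fin 2) (ZMod p)).det = 1 := fun τ hτ => by
    have h1 := congrArg Units.val (MonoidHom.mem_ker.1 hτ.2)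
    simpa using h1
  have hfix : ∀ τ ∈ T, τ * d = d * τ → τ = 1 := fun τ hτ hc => by
    obtain ⟨e1, e2, e3⟩ := h.commute_diag hτ.1 hd hc
    have h1 := hTdet τ hτ
    rw [Matrix.det_fin_two, e1, e2, e3] at h1
    apply Units.ext
    ext i j
    fin_cases i <;> fin_cases j <;> simp_all
  have hdr : d ^ r = 1 := by
    apply Units.ext
    rw [Units.val_pow_eq_pow_val, hd, Units.val_one]
    have hdiag : !![μ, 0; 0, (1 : ZMod p)] = Matrix.diagonal ![μ, 1] := by
      ext i j; fin_cases i <;> fin_cases j <;> simp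
    rw [hdiag, Matrix.diagonal_pow]
    ext i j
    fin_cases i <;> fin_cases j <;> simp [h.μr]
  have hTn : ∀ τ ∈ T, d * τ * d⁻¹ ∈ T := fun τ hτ =>
    Subgroup.mem_inf.2 ⟨mul_mem (mul_mem hdΓ hτ.1) (inv_mem hdΓ),
      (inferInstance : Matrix.GeneralLinearGroup.det.ker.Normal).conj_mem τ hτ.2 d⟩
  let D : Subgroup (GL (Fin 2) (ZMod p)) := Subgroup.zpowers d
  have hDr : IsPGroup r D := fun x => ⟨1, by
    obtain ⟨x, hx⟩ := x
    obtain ⟨i, rfl⟩ := Subgroup.mem_zpowers_iff.1 hx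
    refine Subtype.ext ?_
    show (d ^ i) ^ r ^ 1 = 1
    rw [pow_one, ← zpow_natCast (d ^ i), ← _root_.zpow_mul, mul_comm, _root_.zpow_mul, zpow_natCast, hdr, _root_.one_zpow]⟩
  have hDn : D ≤ Subgroup.normalizer (T : Set (GL (Fin 2) (ZMod p))) := Subgroup.zpowers_le.2 (by
    refine Subgroup.mem_normalizer_iff.2 fun x => ⟨hTn x, fun hx => ?_⟩
    have hpow : ∀ n : ℕ, d ^ n * (d * x * d⁻¹) * (d ^ n)⁻¹ ∈ T := by
      intro n
      induction n with
      | zero => simpa using hx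
      | succ m ih =>
        rw [pow_succ', _root_.mul_inv_rev, show d * d ^ m * (d * x * d⁻¹) * ((d ^ m)⁻¹ * d⁻¹)
          = d * (d ^ m * (d * x * d⁻¹) * (d ^ m)⁻¹) * d⁻¹ by group]
        exact hTn _ ih
    have h1 := hpow (r - 1)
    rwa [show d ^ (r - 1) * (d * x * d⁻¹) * (d ^ (r - 1))⁻¹ = d ^ r * x * (d ^ r)⁻¹ by
      conv_rhs => rw [← Nat.sub_add_cancel h.r_prime.one_lt.le, pow_succ]
      group, hdr, one_mul, inv_one, mul_one] at h1)
  let φ : D →* MulAut T :=
    (Subgroup.normalizerMonoidHom T).comp (Subgroup.inclusion hDn)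
  letI : MulAction D T := MulAction.compHom T φ
  have hsmul : ∀ (a : D) (τ : T), ((a • τ : T) : GL (Fin 2) (ZMod p)) = a * τ * (a : GL (Fin 2) (ZMod p))⁻¹ :=
    fun a τ => rfl
  have hrT : ¬ r ∣ Nat.card T := by
    intro hd'
    have h1 := hDr.card_modEq_card_fixedPoints T
    have h2 : MulAction.fixedPoints D T = {1} := by
      ext τ
      refine ⟨fun hτ => ?_, fun hτ a => ?_⟩
      · have h3 := congrArg Subtype.val (hτ ⟨d, Subgroup.mem_zpowers d⟩)
        rw [hsmul] at h3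
        exact Subtype.ext (hfix τ τ.2 (eq_mul_inv_iff_mul_eq.1 h3.symm))
      · rw [Set.mem_singleton_iff.1 hτ]
        exact Subtype.ext (by rw [hsmul]; simp)
    rw [h2, Nat.card_coe_set_eq, Set.ncard_singleton] at h1
    have h4 : 1 ≡ 0 [MOD r] := h1.symm.trans (Nat.modEq_zero_iff_dvd.2 hd')
    exact h.r_prime.one_lt.ne' (Nat.dvd_one.1 (Nat.modEq_zero_iff_dvd.1 h4))
  have hT : T = ⊥ := by
    by_contra hne
    obtain ⟨s, hs, hsT⟩ := Nat.exists_prime_and_dvd (n := Nat.card T)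
      (fun h1 => hne (Subgroup.eq_bot_of_card_eq T h1))
    haveI : Fact s.Prime := ⟨hs⟩
    letI : MulDistribMulAction D T := MulDistribMulAction.compHom T φ
    obtain ⟨P, hP⟩ := hDr.nonempty_fixed_point_of_prime_not_dvd_card (Sylow s T)
      (fun h1 => hrT (h1.trans ((Sylow.card_dvd_index (default : Sylow s T)).trans
        (Subgroup.index_dvd_card _))))
    haveI : Nontrivial (P : Subgroup T) :=
      (Subgroup.nontrivial_iff_ne_bot _).2 (P.ne_bot_of_dvd_card hsT)
    haveI := P.isPGroup'.center_nontrivial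
    obtain ⟨z, hz⟩ := exists_ne (1 : Subgroup.center (P : Subgroup T))
    set τ : T := ((z : (P : Subgroup T)) : T) with hτd
    have hτ1 : τ ≠ 1 := fun h1 => hz (Subtype.ext (Subtype.ext h1))
    set a : D := ⟨d, Subgroup.mem_zpowers d⟩
    have hmem : a • τ ∈ (P : Subgroup T) := by
      have h1 : ((a • P : Sylow s T) : Subgroup T) = P := by rw [hP a]
      rw [← h1]
      show a • τ ∈ a • (P : Subgroup T)
      exact Subgroup.smul_mem_pointwise_smul τ a _ (z : (P : Subgroup T)).2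
    have hcom := congrArg (fun x : (P : Subgroup T) => ((x : T) : GL (Fin 2) (ZMod p)))
      (Subgroup.mem_center_iff.1 z.2 ⟨a • τ, hmem⟩)
    simp only [Subgroup.coe_mul, hsmul] at hcom
    rw [show ((a : D) : GL (Fin 2) (ZMod p)) = d from rfl, ← hτd] at hcom
    obtain ⟨X, hX⟩ : ∃ X, X = ((τ : GL (Fin 2) (ZMod p)) : Matrix (Fin 2) (Fin 2) (ZMod p)) := ⟨_, rfl⟩
    have hdinv : ((d⁻¹ : GL (Fin 2) (ZMod p)) : Matrix (Fin 2) (Fin 2) (ZMod p)) = !![μ⁻¹, 0; 0, 1] := by
      have hμ0 : μ ≠ 0 := fun h0 => by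
        have := h.μr
        rw [h0, zero_pow h.r_prime.ne_zero] at this
        exact zero_ne_one this
      rw [Matrix.coe_units_inv, hd]
      refine Matrix.inv_eq_right_inv ?_
      ext i j
      fin_cases i <;> fin_cases j <;> simp [Matrix.mul_apply, Fin.sum_univ_two, hμ0]
    have hm := congrArg Units.val hcom
    simp only [Units.val_mul, hd, hdinv, ← hX] at hm
    have hXdet := hTdet τ τ.2
    rw [← hX, Matrix.det_fin_two] at hXdet
    have m00 := congrFun (congrFun hm 0) 0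
    have m01 := congrFun (congrFun hm 0) 1
    simp only [Matrix.mul_apply, Fin.sum_univ_two] at m00 m01
    simp at m00 m01
    have hμ0 : μ ≠ 0 := fun h0 => by
      have := h.μr
      rw [h0, zero_pow h.r_prime.ne_zero] at this
      exact zero_ne_one this
    have hμ2 : μ * μ ≠ 1 := fun h2 => h.μ1 (by
      obtain ⟨k, hk⟩ := h.r_prime.odd_of_ne_two h.r_odd
      have h3 := h.μr
      rw [hk, pow_succ, pow_mul, sq, h2, one_pow, one_mul] at h3
      exact h3)
    have hbc : X 0 1 * X 1 0 = 0 := by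
      have h1 : X 0 1 * X 1 0 * (μ * μ - 1) = 0 := by
        field_simp at m00
        first
        | linear_combination m00
        | linear_combination -m00
      exact (mul_eq_zero.1 h1).resolve_right (sub_ne_zero.2 hμ2)
    rcases eq_or_ne (X 0 1) 0 with hb | hb
    · have e11 := h.fix τ τ.2.1 (by rw [← hX]; exact hb)
      rw [← hX] at e11
      refine hτ1 (Subtype.ext (hp1 _ τ.2.1 (Units.ext ?_)))
      rw [Units.val_pow_eq_pow_val, ← hX, Units.val_one, show X = 1 + (X - 1) by abel]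
      have hN : (X - 1) * (X - 1) = 0 := by
        have e00 : X 0 0 = 1 := by rw [hb, e11, zero_mul, mul_one, sub_zero] at hXdet; exact hXdet
        ext i j
        fin_cases i <;> fin_cases j <;> simp [Matrix.mul_apply, Fin.sum_univ_two, hb, e00, e11]
      rw [one_add_pow hN, ← Nat.cast_smul_eq_nsmul (ZMod p), ZMod.natCast_self, zero_smul, add_zero]
    · have hc : X 1 0 = 0 := (mul_eq_zero.1 hbc).resolve_left hb
      have had : X 0 0 = X 1 1 := by
        rw [show μ * X 0 0 * μ⁻¹ = X 0 0 by field_simp] at m01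
        refine sub_eq_zero.1 ((mul_eq_zero.1 (?_ : (X 0 1 * (μ - 1)) * _ = 0)).resolve_left
          (mul_ne_zero hb (sub_ne_zero.2 h.μ1)))
        first
        | linear_combination m01
        | linear_combination -m01
      have ha2 : X 0 0 * X 0 0 = 1 := by rw [hc, mul_zero, sub_zero, ← had] at hXdet; exact hXdet
      have hN : (X * X - 1) * (X * X - 1) = 0 := by
        ext i j
        fin_cases i <;> fin_cases j <;> simp [Matrix.mul_apply, Fin.sum_univ_two, hc, ← had, ha2]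
      have h1 := hp1 (τ * τ : GL (Fin 2) (ZMod p)) (mul_mem τ.2.1 τ.2.1) (Units.ext (by
        rw [Units.val_pow_eq_pow_val, Units.val_mul, ← hX, Units.val_one,
          show X * X = 1 + (X * X - 1) by abel, one_add_pow hN, ← Nat.cast_smul_eq_nsmul (ZMod p),
          ZMod.natCast_self, zero_smul, add_zero]))
      have h2 := congrArg (fun g : GL (Fin 2) (ZMod p) => (g : Matrix (Fin 2) (Fin 2) (ZMod p)) 0 1) h1
      rw [Units.val_mul, ← hX, Units.val_one] at h2
      simp [Matrix.mul_apply, Fin.sum_univ_two, ← had] at h2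
      have h3 : (2 : ZMod p) * (X 0 0 * X 0 1) = 0 := by linear_combination h2
      rcases mul_eq_zero.1 h3 with h4 | h4
      · refine h.p_odd ((Nat.prime_dvd_prime_iff_eq Fact.out Nat.prime_two).1
          ((ZMod.natCast_eq_zero_iff 2 p).1 (by exact_mod_cast h4)))
      · rcases mul_eq_zero.1 h4 with h5 | h5
        · rw [h5, zero_mul] at ha2; exact zero_ne_one ha2
        · exact hb h5
  have hcd : g * d = d * g := by
    have h1 : g * d * g⁻¹ * d⁻¹ ∈ T := by
      refine Subgroup.mem_inf.2 ⟨mul_mem (mul_mem (mul_mem hg hdΓ) (inv_mem hg)) (inv_mem hdΓ),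
        MonoidHom.mem_ker.2 ?_⟩
      rw [map_mul, map_mul, map_mul, map_inv, map_inv, mul_comm (Matrix.GeneralLinearGroup.det g),
        mul_inv_cancel_right, mul_inv_cancel]
    rw [hT, Subgroup.mem_bot, mul_inv_eq_one, mul_inv_eq_iff_eq_mul] at h1
    exact h1
  obtain ⟨-, e2, e3⟩ := h.commute_diag hg hd hcd
  exact ⟨e2, e3⟩

end Auto

end CfsgLib.Walter.Field.SylowKey.Plane
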