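import Cfsg.Agent.Lib.Recog.Walter.Field.SylowKey.Coord
import Cfsg.Agent.Lib.Recog.Walter.Field.SylowKey.Plane
import Cfsg.Agent.Lib.Fusion.MetacyclicTwoClosed

/-!
Owner: helper21. Walter, field part (B): the key lemma, Sylow subgroups over `A = C_P(z)`.
-/

set_option autoImplicit false
set_option linter.style.haveILetI false
set_option linter.unusedSectionVars false

namespace CfsgLib.Walter.Field.SylowKey

open Subgroup

universe u

/-- The hypotheses of the key lemma. -/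
structure Hyp {G : Type u} [Group G] (p r : ℕ) (z c : G) (A : Subgroup G) : Prop where
  p_odd : p ≠ 2
  r_prime : r.Prime
  r_odd : r ≠ 2
  r_ne : r ≠ p
  z_ne : z ≠ 1
  fusion : ∀ g, g * z * g⁻¹ ∈ zpowers z → g * z * g⁻¹ = z
  z_mem : z ∈ A
  A_le : A ≤ centralizer ({z} : Set G)
  A_p : IsPGroup p A
  A_card : Nat.card A = p * orderOf z
  A_comm : ∀ a ∈ A, ∀ b ∈ A, a * b = b * a
  A_sylow : ¬ p ∣ A.relIndex (centralizer ({z} : Set G))
  c_cen : c * z = z * c
  c_norm : ∀ a ∈ A, c * a * c⁻¹ ∈ A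
  c_pow : c ^ r = 1
  c_ne : ∃ a ∈ A, c * a ≠ a * c

/-- The hypotheses with the eigenvector `ρ` and the lifted eigenvalue `M`. -/
structure Data {G : Type u} [Group G] (p r M : ℕ) (z c ρ : G) (A : Subgroup G) : Prop
    extends Hyp p r z c A where
  ρ_mem : ρ ∈ A
  ρp : ρ ^ p = 1
  ρ1 : ρ ≠ 1
  cρ : c * ρ * c⁻¹ = ρ ^ M
  M1 : (M : ZMod p) ≠ 1
  Mpow : ∀ x : G, (∃ k : ℕ, x ^ p ^ k = 1) → x ^ (M ^ r) = x
  form : ∀ x ∈ A, ∃ a ∈ zpowers z, ∃ b ∈ zpowers ρ, x = a * b

/-- A `p`-subgroup over `A` normalised by a `p'`-element acting as `c` on `A`. -/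
structure Good {G : Type u} [Group G] (p : ℕ) (z c : G) (A : Subgroup G) (D : Subgroup G) (c' : G) : Prop where
  pr : IsPGroup p D
  le : A ≤ D
  cen : c' * z = z * c'
  act : ∀ a ∈ A, c' * a * c'⁻¹ = c * a * c⁻¹
  norm : c' ∈ normalizer (D : Set G)
  coprime : ¬ p ∣ orderOf c'

variable {G : Type u} [Group G] [Finite G] {p r M : ℕ} [Fact p.Prime] {z c ρ : G} {A : Subgroup G}

theorem Hyp.exists_data (h : Hyp p r z c A) : ∃ (M : ℕ) (ρ : G), Data p r M z c ρ A := by
  letI : CommGroup A := { (inferInstance : Group A) with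
    mul_comm := fun a b => Subtype.ext (h.A_comm a a.2 b b.2) }
  let γ : A →* A := MonoidHom.mk' (fun a => ⟨c * a * c⁻¹, h.c_norm a a.2⟩) fun a b =>
    Subtype.ext (by show c * ((a : G) * b) * c⁻¹ = c * a * c⁻¹ * (c * b * c⁻¹); group)
  let δ : A →* A := γ * (MonoidHom.id A)⁻¹
  have hδ : ∀ a : A, δ a = γ a * a⁻¹ := fun a => rfl
  set z' : A := ⟨z, h.z_mem⟩ with hz'
  have hγz : γ z' = z' := Subtype.ext (show c * z * c⁻¹ = z by rw [h.c_cen, mul_inv_cancel_right])
  have hzker : zpowers z' ≤ δ.ker := zpowers_le.2 (by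
    rw [MonoidHom.mem_ker, hδ, hγz, mul_inv_cancel])
  have hne : δ.ker ≠ ⊤ := fun ht => by
    obtain ⟨a, ha, hca⟩ := h.c_ne
    have h1 : δ ⟨a, ha⟩ = 1 := MonoidHom.mem_ker.1 (ht ▸ mem_top _)
    rw [hδ, mul_inv_eq_one] at h1
    exact hca (mul_inv_eq_iff_eq_mul.1 (congrArg Subtype.val h1))
  have hidx : (zpowers z').index = p := by
    have h1 := (zpowers z').card_mul_index
    rw [Nat.card_zpowers, ← Subgroup.orderOf_coe, h.A_card, mul_comm p] at h1
    exact Nat.eq_of_mul_eq_mul_left (orderOf_pos z) h1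
  have hker : δ.ker = zpowers z' := by
    rcases (Nat.dvd_prime Fact.out).1 (hidx ▸ index_dvd_of_le hzker) with h1 | h1
    · exact absurd (index_eq_one.1 h1) hne
    · refine (eq_of_le_of_card_ge hzker (le_of_eq ?_)).symm
      have h2 := (zpowers z').card_mul_index
      rw [← δ.ker.card_mul_index, h1, hidx] at h2
      exact (Nat.eq_of_mul_eq_mul_right (Fact.out : p.Prime).pos h2).symm
  have hrange : Nat.card δ.range = p := by rw [← index_ker, hker, hidx]
  haveI : Nontrivial δ.range := Finite.one_lt_card_iff_nontrivial.1 (hrange ▸ (Fact.out : p.Prime).one_lt)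
  obtain ⟨⟨ρ', hρr⟩, hρ'⟩ := exists_ne (1 : δ.range)
  have hρp : ρ' ^ p = 1 := by
    have h1 : (⟨ρ', hρr⟩ : δ.range) ^ Nat.card δ.range = 1 := pow_card_eq_one'
    rw [hrange] at h1
    exact congrArg Subtype.val h1
  have hρ1 : ρ' ≠ 1 := fun h1 => hρ' (Subtype.ext h1)
  have hgen : ∀ x ∈ δ.range, x ∈ zpowers ρ' := fun x hx => by
    obtain ⟨i, hi⟩ := mem_zpowers_iff.1 (mem_zpowers_of_prime_card hrange hρ' :
      (⟨x, hx⟩ : δ.range) ∈ zpowers (⟨ρ', hρr⟩ : δ.range))
    exact mem_zpowers_iff.2 ⟨i, congrArg Subtype.val hi⟩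
  have hγr : ∀ a : A, (γ^[r]) a = a := fun a => Subtype.ext (by
    have h1 : ∀ n : ℕ, (((γ^[n]) a : A) : G) = c ^ n * a * (c ^ n)⁻¹ := by
      intro n
      induction n with
      | zero => simp
      | succ m ih =>
        rw [Function.iterate_succ_apply', pow_succ', mul_inv_rev]
        show c * (((γ^[m]) a : A) : G) * c⁻¹ = _
        rw [ih]; group
    rw [h1, h.c_pow]; simp)
  have hρz : ρ' ∉ zpowers z' := fun hm => by
    have hγρ : γ ρ' = ρ' := by
      have h1 := MonoidHom.mem_ker.1 (hzker hm)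
      rwa [hδ, mul_inv_eq_one] at h1
    obtain ⟨a, ha⟩ := hρr
    have hit : ∀ n : ℕ, (γ^[n]) a = ρ' ^ n * a := by
      intro n
      induction n with
      | zero => simp
      | succ m ih =>
        rw [Function.iterate_succ_apply', ih, map_mul, map_pow, hγρ, pow_succ, mul_assoc]
        rw [hδ, mul_inv_eq_iff_eq_mul] at ha
        rw [ha]
    have h1 := hit r
    rw [hγr, right_eq_mul] at h1
    refine hρ1 ?_
    have h2 : orderOf ρ' = 1 := Nat.eq_one_of_dvd_coprimes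
      ((Nat.coprime_primes h.r_prime Fact.out).2 h.r_ne) (orderOf_dvd_of_pow_eq_one h1)
      (orderOf_dvd_of_pow_eq_one hρp)
    exact orderOf_eq_one_iff.1 h2
  obtain ⟨μ, hμ⟩ : ∃ μ : ℕ, γ ρ' = ρ' ^ μ := by
    have h1 : γ ρ' ∈ δ.range := by
      obtain ⟨a, ha⟩ := hρr
      exact ⟨γ a, by rw [← ha, hδ, hδ, map_mul, map_inv]⟩
    obtain ⟨μ, hμ⟩ := mem_powers_iff_mem_zpowers.2 (hgen _ h1)
    exact ⟨μ, hμ.symm⟩
  have hpow : ∀ a b : ℕ, (a : ZMod p) = b → ρ' ^ a = ρ' ^ b := fun a b hab => by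
    rw [pow_eq_pow_iff_modEq, orderOf_eq_prime hρp hρ1]
    exact (ZMod.natCast_eq_natCast_iff a b p).1 hab
  have hμr : ((μ ^ r : ℕ) : ZMod p) = 1 := by
    have h1 : ∀ n : ℕ, (γ^[n]) ρ' = ρ' ^ μ ^ n := by
      intro n
      induction n with
      | zero => simp
      | succ m ih => rw [Function.iterate_succ_apply', ih, map_pow, hμ, ← pow_mul, pow_succ' μ m]
    by_contra hne'
    refine hρ1 ?_
    have h2 := h1 r
    rw [hγr] at h2
    exact eq_one_of_pow_eq_self (p := p) h.A_p h2.symm hne'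
  set N := Nat.card G
  refine ⟨μ ^ p ^ N, ρ', {
    toHyp := h, ρ_mem := ρ'.2, ρp := congrArg Subtype.val hρp,
    ρ1 := fun h1 => hρ1 (Subtype.ext h1), cρ := ?_, M1 := ?_, Mpow := ?_, form := ?_ }⟩
  · have h1 : ρ' ^ μ = ρ' ^ μ ^ p ^ N := hpow _ _ (by rw [Nat.cast_pow, ZMod.pow_card_pow])
    have h2 := congrArg Subtype.val (hμ.trans h1)
    simp only [SubgroupClass.coe_pow] at h2
    exact h2
  · rw [Nat.cast_pow, ZMod.pow_card_pow]
    intro h1
    refine hρz (hker ▸ MonoidHom.mem_ker.2 ?_)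
    rw [hδ, hμ, hpow μ 1 (by rw [h1, Nat.cast_one]), pow_one, mul_inv_cancel]
  · rintro x ⟨k, hk⟩
    obtain ⟨i, -, hi⟩ := (Nat.dvd_prime_pow Fact.out).1 (orderOf_dvd_of_pow_eq_one hk)
    have hiN : i ≤ N + 1 := by
      have h1 := Nat.le_of_dvd Nat.card_pos (orderOf_dvd_natCard x)
      have h2 := Nat.lt_pow_self (Fact.out : p.Prime).one_lt (n := i)
      omega
    conv_rhs => rw [← pow_one x]
    rw [pow_eq_pow_iff_modEq, hi, ← pow_mul, mul_comm, pow_mul, ← Int.natCast_modEq_iff]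
    have hd : (p : ℤ) ∣ ((μ ^ r : ℕ) : ℤ) - 1 := by
      rw [← ZMod.intCast_zmod_eq_zero_iff_dvd, Int.cast_sub, Int.cast_natCast, hμr, Int.cast_one, sub_self]
    have h3 := dvd_sub_pow_of_dvd_sub hd N
    rw [one_pow] at h3
    refine (Int.modEq_iff_dvd.2 ?_).symm
    push_cast
    exact (pow_dvd_pow (p : ℤ) hiN).trans (by exact_mod_cast h3)
  · intro x hx
    have htop : zpowers z' ⊔ zpowers ρ' = ⊤ := by
      rcases (Nat.dvd_prime Fact.out).1
        (hidx ▸ index_dvd_of_le (le_sup_left : zpowers z' ≤ zpowers z' ⊔ zpowers ρ')) with h1 | h1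
      · exact index_eq_one.1 h1
      · refine absurd ?_ hρz
        have h2 : zpowers z' = zpowers z' ⊔ zpowers ρ' := eq_of_le_of_card_ge le_sup_left (le_of_eq (by
          have h3 := (zpowers z').card_mul_index
          rw [← (zpowers z' ⊔ zpowers ρ').card_mul_index, h1, hidx] at h3
          exact (Nat.eq_of_mul_eq_mul_right (Fact.out : p.Prime).pos h3).symm))
        rw [h2]
        exact mem_sup_right (mem_zpowers ρ')
    obtain ⟨a, ha, b, hb, hab⟩ := mem_sup.1 (htop ▸ mem_top (⟨x, hx⟩ : A))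
    obtain ⟨i, rfl⟩ := mem_zpowers_iff.1 ha
    obtain ⟨j, rfl⟩ := mem_zpowers_iff.1 hb
    exact ⟨z ^ i, zpow_mem (mem_zpowers z) i, (ρ' : G) ^ j, zpow_mem (mem_zpowers _) j,
      (congrArg Subtype.val hab).symm⟩

/-- A `p'`-automorphism fixing a self-centralising subgroup of a `p`-group pointwise is trivial. -/
theorem aut_eq_one {P : Type u} [Group P] [Finite P] (hP : IsPGroup p P) (δ : MulAut P) {m : ℕ}
    (hm : δ ^ m = 1) (hpm : ¬ p ∣ m) (B : Subgroup P) (hB : ∀ a ∈ B, δ a = a)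
    (hC : ∀ x, (∀ a ∈ B, x * a = a * x) → x ∈ B) : δ = 1 := by
  set F : Subgroup P := MonoidHom.eqLocus δ.toMonoidHom (MonoidHom.id P) with hF
  suffices F = ⊤ from MulEquiv.ext fun x => (this ▸ mem_top x : x ∈ F)
  by_contra hne
  haveI := hP.isNilpotent
  have hnc : NormalizerCondition P := Group.normalizerCondition_of_isNilpotent
  obtain ⟨x, hx, hxF⟩ := SetLike.exists_of_lt (hnc F (lt_top_iff_ne_top.2 hne))
  have hv : x⁻¹ * δ x ∈ F := by
    refine (show B ≤ F from hB) (hC _ fun a ha => ?_)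
    have h1 : δ (x * a * x⁻¹) = x * a * x⁻¹ := (mem_normalizer_iff.1 hx a).1 (hB a ha)
    rw [map_mul, map_mul, map_inv, hB a ha] at h1
    calc x⁻¹ * δ x * a = x⁻¹ * (δ x * a * (δ x)⁻¹) * δ x := by group
      _ = a * (x⁻¹ * δ x) := by rw [h1]; group
  set v := x⁻¹ * δ x with hvd
  have hit : ∀ n : ℕ, (δ ^ n) x = x * v ^ n := by
    intro n
    induction n with
    | zero => simp
    | succ j ih =>
      rw [pow_succ', MulAut.mul_apply, ih, map_mul, map_pow, show δ v = v from hv,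
        show δ x = x * v by rw [hvd, mul_inv_cancel_left], mul_assoc, ← pow_succ']
  have h1 := hit m
  rw [hm, MulAut.one_apply, left_eq_mul] at h1
  obtain ⟨k, hk⟩ := hP v
  refine hxF ?_
  have h2 : v = 1 := orderOf_eq_one_iff.1 (Nat.eq_one_of_dvd_coprimes
    (((Fact.out : p.Prime).coprime_iff_not_dvd.2 hpm).pow_left k) (orderOf_dvd_of_pow_eq_one hk)
    (orderOf_dvd_of_pow_eq_one h1))
  show δ x = x
  rw [← mul_inv_cancel_left x (δ x), ← hvd, h2, mul_one]

theorem Data.eq_of_centralizer (h : Data p r M z c ρ A) {D : Subgroup G} (hD : IsPGroup p D) (hAD : A ≤ D)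
    {x : G} (hx : x ∈ D) (hxz : x * z = z * x) : x ∈ A := by
  suffices D ⊓ centralizer ({z} : Set G) ≤ A from this ⟨hx, mem_centralizer_singleton_iff.2 hxz⟩
  set S := D ⊓ centralizer ({z} : Set G) with hS
  rw [← relIndex_eq_one]
  have h1 : A.relIndex S * S.relIndex (centralizer ({z} : Set G)) = A.relIndex (centralizer ({z} : Set G)) :=
    relIndex_mul_relIndex _ _ _ (le_inf hAD h.A_le) inf_le_right
  obtain ⟨k, hk⟩ := IsPGroup.iff_card.1 (hD.to_le (inf_le_left : S ≤ D))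
  obtain ⟨j, -, hj⟩ := (Nat.dvd_prime_pow Fact.out).1 (hk ▸ (Subgroup.relIndex_dvd_card A S))
  rcases j with - | j
  · rw [hj, pow_zero]
  · exact absurd ((hj ▸ dvd_pow_self p j.succ_ne_zero : p ∣ A.relIndex S).trans (Dvd.intro _ h1)) h.A_sylow

namespace Good

variable {D : Subgroup G} {c' : G}

/-- The automorphism. -/
noncomputable def aut (hG : Good p z c A D c') : MulAut D := D.normalizerMonoidHom ⟨c', hG.norm⟩

theorem aut_coe (hG : Good p z c A D c') (x : D) : ((hG.aut x : D) : G) = c' * x * c'⁻¹ := rfl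

theorem conf (hG : Good p z c A D c') (h : Data p r M z c ρ A) :
    Conf p r M hG.aut (⟨z, hG.le h.z_mem⟩ : D) ⟨ρ, hG.le h.ρ_mem⟩ := by
  have hcen : ∀ x : D, Commute x (⟨z, hG.le h.z_mem⟩ : D) → (x : G) ∈ A := fun x hx =>
    h.eq_of_centralizer hG.pr hG.le x.2 (congrArg Subtype.val hx.eq)
  have hγA : ∀ a : D, (a : G) ∈ A → ((hG.aut a : D) : G) = c * a * c⁻¹ := fun a ha => by
    rw [hG.aut_coe, hG.act a ha]
  have hγz : hG.aut ⟨z, hG.le h.z_mem⟩ = ⟨z, hG.le h.z_mem⟩ := Subtype.ext (by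
    rw [hG.aut_coe]; show c' * z * c'⁻¹ = z; rw [hG.cen, mul_inv_cancel_right])
  have hγρ : hG.aut ⟨ρ, hG.le h.ρ_mem⟩ = (⟨ρ, hG.le h.ρ_mem⟩ : D) ^ M :=
    Subtype.ext ((hγA _ h.ρ_mem).trans h.cρ)
  have hcomm : Commute (⟨z, hG.le h.z_mem⟩ : D) ⟨ρ, hG.le h.ρ_mem⟩ :=
    Subtype.ext (h.A_comm z h.z_mem ρ h.ρ_mem)
  have hcent : ∀ x : D, Commute x (⟨z, hG.le h.z_mem⟩ : D) →
      ∃ a ∈ zpowers (⟨z, hG.le h.z_mem⟩ : D), ∃ b ∈ zpowers (⟨ρ, hG.le h.ρ_mem⟩ : D), x = a * b := by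
    intro x hx
    obtain ⟨a, ha, b, hb, hab⟩ := h.form x (hcen x hx)
    obtain ⟨i, rfl⟩ := mem_zpowers_iff.1 ha
    obtain ⟨j, rfl⟩ := mem_zpowers_iff.1 hb
    exact ⟨_, zpow_mem (mem_zpowers _) i, _, zpow_mem (mem_zpowers _) j, Subtype.ext (by simpa using hab)⟩
  refine
    { pr := hG.pr, r_prime := h.r_prime, r_odd := h.r_odd, r_ne := h.r_ne, γr := ?_, Mr := ?_,
      M1 := h.M1, fixed := ?_, ρp := Subtype.ext h.ρp, ρ1 := fun e => h.ρ1 (congrArg Subtype.val e),
      γρ := hγρ, comm := hcomm, cent := hcent }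
  · refine aut_eq_one hG.pr (hG.aut ^ r) (m := orderOf c') ?_ hG.coprime (A.subgroupOf D) (fun a ha => ?_)
      (fun x hx => hcen x (hx _ h.z_mem))
    · rw [← pow_mul, mul_comm, pow_mul, aut, ← map_pow,
        show (⟨c', hG.norm⟩ : normalizer (D : Set G)) ^ orderOf c' = 1 from Subtype.ext (pow_orderOf_eq_one c'),
        map_one, one_pow]
    · have h1 : ∀ n : ℕ, ((((hG.aut ^ n) a : D)) : G) = c ^ n * a * (c ^ n)⁻¹ ∧
          (((hG.aut ^ n) a : D) : G) ∈ A := by
        intro n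
        induction n with
        | zero => exact ⟨by simp, by simpa [mem_subgroupOf] using ha⟩
        | succ m ih =>
          rw [pow_succ', MulAut.mul_apply]
          refine ⟨?_, ?_⟩
          · rw [hγA _ ih.2, ih.1, pow_succ', mul_inv_rev]; group
          · rw [hγA _ ih.2]; exact h.c_norm _ ih.2
      exact Subtype.ext (by rw [(h1 r).1, h.c_pow]; simp)
  · intro x
    obtain ⟨k, hk⟩ := hG.pr x
    exact Subtype.ext (h.Mpow x ⟨k, congrArg Subtype.val hk⟩)
  · intro x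
    set z' : D := ⟨z, hG.le h.z_mem⟩
    set Q : Subgroup D := MonoidHom.eqLocus hG.aut.toMonoidHom (MonoidHom.id D)
    have hzQ : z' ∈ Q := hγz
    refine ⟨fun hx => ?_, fun hx => zpowers_le.2 hzQ hx⟩
    haveI := (hG.pr.to_subgroup Q).isNilpotent
    have hnc : NormalizerCondition Q := Group.normalizerCondition_of_isNilpotent
    suffices htop : (zpowers z').subgroupOf Q = ⊤ from
      mem_subgroupOf.1 (htop ▸ mem_top (⟨x, hx⟩ : Q))
    by_contra hne
    obtain ⟨y, hy, hyH⟩ := SetLike.exists_of_lt (hnc _ (lt_top_iff_ne_top.2 hne))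
    have h1 := (mem_normalizer_iff.1 hy ⟨z', hzQ⟩).1 (mem_subgroupOf.2 (mem_zpowers z'))
    obtain ⟨i, hi⟩ := mem_zpowers_iff.1 (mem_subgroupOf.1 h1)
    have h2 := h.fusion ((y : D) : G) (mem_zpowers_iff.2 ⟨i, by simpa using congrArg Subtype.val hi⟩)
    obtain ⟨a, ha, b, hb, hab⟩ := hcent y (Subtype.ext (mul_inv_eq_iff_eq_mul.1 h2))
    have hb' : b = 1 := by
      obtain ⟨j, rfl⟩ := mem_zpowers_iff.1 hb
      have h3 : hG.aut (y : D) = y := y.2
      obtain ⟨l, rfl⟩ := mem_zpowers_iff.1 ha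
      rw [hab, map_mul, map_zpow, map_zpow, hγz, mul_left_cancel_iff, hγρ, ← zpow_natCast,
        ← zpow_mul, mul_comm, zpow_mul, zpow_natCast] at h3
      exact eq_one_of_pow_eq_self hG.pr h3 h.M1
    rw [hb', mul_one] at hab
    exact hyH (mem_subgroupOf.2 (hab ▸ ha))

end Good

/-- The representation of automorphisms on `P / Φ(P)`. -/
noncomputable def Coord.mat {P : Type u} [Group P] {γ : MulAut P} {w : P} (K : Coord p M γ w) (σ : MulAut P) :
    Matrix (Fin 2) (Fin 2) (ZMod p) :=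
  !![(K.X (σ K.k1)).toAdd, (K.X (σ w)).toAdd; (K.H (σ K.k1)).toAdd, (K.H (σ w)).toAdd]

theorem Coord.eval {P : Type u} [Group P] {γ : MulAut P} {w : P} (K : Coord p M γ w)
    (f : P →* Multiplicative (ZMod p)) (x : P) :
    (f x).toAdd = (f K.k1).toAdd * (K.X x).toAdd + (f w).toAdd * (K.H x).toAdd := by
  set g : P →* Multiplicative (ZMod p) :=
    f * (K.X ^ (f K.k1).toAdd.val * K.H ^ (f w).toAdd.val)⁻¹ with hg
  have h1 : ∀ y, (g y).toAdd
      = (f y).toAdd - ((f K.k1).toAdd * (K.X y).toAdd + (f w).toAdd * (K.H y).toAdd) := fun y => by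
    rw [hg, MonoidHom.mul_apply, MonoidHom.inv_apply, MonoidHom.mul_apply, MonoidHom.pow_apply,
      MonoidHom.pow_apply, toAdd_mul, toAdd_inv, toAdd_mul, toAdd_pow, toAdd_pow, nsmul_eq_mul,
      nsmul_eq_mul, ZMod.natCast_zmod_val, ZMod.natCast_zmod_val, sub_eq_add_neg]
  have h2 : g = 1 := K.generated g (toAdd_eq_zero.1 (by rw [h1, K.Xz, K.Hz]; simp))
    (toAdd_eq_zero.1 (by rw [h1, K.Xk, K.Hk]; simp))
  have h3 := h1 x
  rw [h2] at h3
  exact sub_eq_zero.1 (by simpa using h3.symm)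

/-- The representation on `P / Φ(P)` as a homomorphism. -/
noncomputable def Coord.rep {P : Type u} [Group P] {γ : MulAut P} {w : P} (K : Coord p M γ w) :
    MulAut P →* GL (Fin 2) (ZMod p) :=
  MonoidHom.toHomUnits
    { toFun := K.mat
      map_one' := by
        ext i j
        fin_cases i <;> fin_cases j <;> simp [Coord.mat, K.Xk, K.Xz, K.Hk, K.Hz]
      map_mul' := fun σ τ => by
        have hX := fun y => K.eval (K.X.comp (σ : P ≃* P).toMonoidHom) y
        have hH := fun y => K.eval (K.H.comp (σ : P ≃* P).toMonoidHom) y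
        simp only [MonoidHom.comp_apply, MulEquiv.coe_toMonoidHom] at hX hH
        ext i j
        fin_cases i <;> fin_cases j <;>
          simp [Coord.mat, MulAut.mul_apply, Matrix.mul_apply, Fin.sum_univ_two, hX (τ K.k1), hX (τ w),
            hH (τ K.k1), hH (τ w)] }

theorem Coord.rep_coe {P : Type u} [Group P] {γ : MulAut P} {w : P} (K : Coord p M γ w) (σ : MulAut P) :
    (K.rep σ : Matrix (Fin 2) (Fin 2) (ZMod p)) = K.mat σ := rfl

/-- The kernel of the representation is a `p`-group. -/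
theorem Coord.isPGroup_ker {P : Type u} [Group P] [Finite P] {γ : MulAut P} {w : P} (K : Coord p M γ w)
    (hP : IsPGroup p P) : IsPGroup p K.rep.ker := by
  refine CfsgLib.Fusion.isPGroup_frattini_stabilizer hP _ fun σ hσ x => ?_
  have hm : K.mat σ = 1 := by
    rw [← K.rep_coe, MonoidHom.mem_ker.1 hσ]; rfl
  have e00 : (K.X (σ K.k1)).toAdd = 1 := by simpa [Coord.mat] using congrFun (congrFun hm 0) 0
  have e01 : (K.X (σ w)).toAdd = 0 := by simpa [Coord.mat] using congrFun (congrFun hm 0) 1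
  have e10 : (K.H (σ K.k1)).toAdd = 0 := by simpa [Coord.mat] using congrFun (congrFun hm 1) 0
  have e11 : (K.H (σ w)).toAdd = 1 := by simpa [Coord.mat] using congrFun (congrFun hm 1) 1
  refine K.kernel _ ?_ ?_
  · have h1 := K.eval (K.X.comp (σ : P ≃* P).toMonoidHom) x
    simp only [MonoidHom.comp_apply, MulEquiv.coe_toMonoidHom, e00, e01, one_mul, zero_mul, add_zero] at h1
    rw [map_mul, map_inv, mul_inv_eq_one]
    exact Multiplicative.toAdd.injective h1
  · have h1 := K.eval (K.H.comp (σ : P ≃* P).toMonoidHom) x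
    simp only [MonoidHom.comp_apply, MulEquiv.coe_toMonoidHom, e10, e11, one_mul, zero_mul, zero_add] at h1
    rw [map_mul, map_inv, mul_inv_eq_one]
    exact Multiplicative.toAdd.injective h1

variable {D : Subgroup G} {c' : G}

/-- The action of the normalizer of `D` on `D / Φ(D)` has normal Sylow subgroup, and no `-1`. -/
theorem auto (h : Data p r M z c ρ A) (hG : Good p z c A D c')
    (K : Coord p M hG.aut (⟨z, hG.le h.z_mem⟩ : D)) :
    Plane.Auto p r (M : ZMod p) (K.rep.comp D.normalizerMonoidHom).range := by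
  refine ⟨h.p_odd, h.r_prime, h.r_odd, (hG.conf h).Mr', h.M1, ⟨K.rep hG.aut, ⟨⟨c', hG.norm⟩, rfl⟩, ?_⟩, ?_⟩
  · rw [K.rep_coe]
    have hz := (hG.conf h).γz
    have hk := K.γk
    ext i j
    fin_cases i <;> fin_cases j <;>
      simp [Coord.mat, hz, hk, K.Xz, K.Hz, K.Xk, K.Hk, map_pow, toAdd_pow, nsmul_eq_mul]
  · rintro _ ⟨g, rfl⟩ h01
    set σ : MulAut D := D.normalizerMonoidHom g with hσ
    have hco : ((K.rep.comp D.normalizerMonoidHom g : GL (Fin 2) (ZMod p)) :
        Matrix (Fin 2) (Fin 2) (ZMod p)) = K.mat σ := rfl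
    rw [hco] at h01 ⊢
    have hX : K.X (σ ⟨z, hG.le h.z_mem⟩) = 1 := toAdd_eq_zero.1 (by simpa [Coord.mat] using h01)
    have hH : K.H (σ ⟨z, hG.le h.z_mem⟩) ≠ 1 := fun h1 => by
      have h2 : (K.mat σ).det = 0 := by
        rw [Matrix.det_fin_two]
        simp [Coord.mat, hX, h1]
      have h3 := Matrix.GeneralLinearGroup.det_ne_zero (K.rep σ)
      rw [K.rep_coe] at h3
      exact h3 h2
    obtain ⟨d, m, hd⟩ := K.classes _ hX hH
    have hd' : (g : G) * z * (g : G)⁻¹ = (d : G) * z ^ m * (d : G)⁻¹ := by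
      have e := congrArg Subtype.val hd
      simp only [Subgroup.coe_mul, SubgroupClass.coe_pow, Subgroup.coe_inv] at e
      exact e
    have h4 : ((d : G)⁻¹ * g) * z * ((d : G)⁻¹ * g)⁻¹ = z ^ m := by
      rw [mul_inv_rev, inv_inv, show (d : G)⁻¹ * g * z * ((g : G)⁻¹ * d) = (d : G)⁻¹ * (g * z * (g : G)⁻¹) * d by
        group, hd']
      group
    have h5 := h.fusion _ (h4 ▸ pow_mem (mem_zpowers z) m)
    have h6 : z ^ m = z := h4.symm.trans h5
    show (K.H (σ ⟨z, hG.le h.z_mem⟩)).toAdd = 1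
    rw [hd, map_mul K.H, map_mul K.H, map_inv K.H, mul_comm (K.H d), mul_inv_cancel_right,
      show (⟨z, hG.le h.z_mem⟩ : D) ^ m = ⟨z, hG.le h.z_mem⟩ from Subtype.ext h6, K.Hz, toAdd_ofAdd]

/-- The Sylow subgroups of `N(D)` are conjugate under `C(D)`. -/
theorem sylow_conj (h : Data p r M z c ρ A) (hG : Good p z c A D c')
    (R1 R2 : Sylow p (normalizer (D : Set G))) :
    ∃ n : normalizer (D : Set G), (n : G) ∈ centralizer (D : Set G) ∧
      ∀ x, x ∈ (R2 : Subgroup (normalizer (D : Set G))) ↔ n⁻¹ * x * n ∈ (R1 : Subgroup _) := by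
  obtain ⟨K⟩ := (hG.conf h).nonempty_coord (fun e => h.z_ne (congrArg Subtype.val e))
  set φ := D.normalizerMonoidHom with hφ
  set f := K.rep.comp φ with hf
  haveI := (auto h hG K).subsingleton_sylow
  -- the image in `Aut D` has a unique Sylow subgroup
  let g : φ.range →* f.range := MonoidHom.mk' (fun σ => ⟨K.rep σ, by
      obtain ⟨y, hy⟩ := σ.2
      exact ⟨y, by rw [← hy]; rfl⟩⟩) fun a b => Subtype.ext (map_mul K.rep _ _)
  have hgker : IsPGroup p g.ker := fun σ => by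
    have h1 : ((σ : φ.range) : MulAut D) ∈ K.rep.ker :=
      MonoidHom.mem_ker.2 (congrArg Subtype.val (MonoidHom.mem_ker.1 σ.2))
    obtain ⟨k, hk⟩ := (K.isPGroup_ker hG.pr) ⟨_, h1⟩
    have h2 := congrArg Subtype.val hk
    exact ⟨k, Subtype.ext (Subtype.ext (by simpa using h2))⟩
  obtain ⟨S0⟩ : Nonempty (Sylow p f.range) := inferInstance
  have hun : ∀ S : Sylow p φ.range, (S : Subgroup φ.range) = (S0 : Subgroup f.range).comap g := fun S => by
    refine (S.is_maximal' (S0.isPGroup'.comap_of_ker_isPGroup g hgker) fun x hx => ?_).symm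
    obtain ⟨T, hT⟩ := (S.isPGroup'.map g).exists_le_sylow
    rw [Subsingleton.elim S0 T]
    exact hT (mem_map_of_mem g hx)
  haveI : Subsingleton (Sylow p φ.range) := ⟨fun S T => Sylow.ext ((hun S).trans (hun T).symm)⟩
  have hsurj := φ.rangeRestrict_surjective
  set L : Subgroup (normalizer (D : Set G)) :=
    ((R1 : Subgroup (normalizer (D : Set G))).map φ.rangeRestrict).comap φ.rangeRestrict with hL
  have h1L : (R1 : Subgroup _) ≤ L := le_comap_map _ _
  have h2L : (R2 : Subgroup _) ≤ L := by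
    rw [hL]
    have h3 : (R1.mapSurjective hsurj : Sylow p φ.range) = R2.mapSurjective hsurj := Subsingleton.elim _ _
    have h4 := congrArg Sylow.toSubgroup h3
    rw [Sylow.coe_mapSurjective, Sylow.coe_mapSurjective] at h4
    rw [h4]
    exact le_comap_map _ _
  obtain ⟨l, hl⟩ := MulAction.exists_smul_eq L (R1.subtype h1L) (R2.subtype h2L)
  have hlL : (l : normalizer (D : Set G)) ∈ φ.rangeRestrict.ker ⊔ (R1 : Subgroup _) := by
    rw [sup_comm, ← comap_map_eq]; exact l.2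
  obtain ⟨n, hn, r1, hr1, hnr⟩ := mem_sup_of_normal_left.1 hlL
  refine ⟨n, ?_, fun x => ?_⟩
  · rw [MonoidHom.ker_rangeRestrict, hφ, normalizerMonoidHom_ker] at hn
    exact mem_subgroupOf.1 hn
  · have h5 : ∀ y : L, y ∈ (R2.subtype h2L : Subgroup L) ↔ l⁻¹ * y * l ∈ (R1.subtype h1L : Subgroup L) :=
      fun y => by
        rw [← hl, Sylow.coe_subgroup_smul, Subgroup.mem_pointwise_smul_iff_inv_smul_mem]
        simp [MulAut.smul_def, mul_assoc]
    have hR : ∀ y : normalizer (D : Set G), (l : normalizer (D : Set G))⁻¹ * y * l ∈ (R1 : Subgroup _)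
        ↔ n⁻¹ * y * n ∈ (R1 : Subgroup _) := fun y => by
      rw [← hnr, show (n * r1)⁻¹ * y * (n * r1) = r1⁻¹ * (n⁻¹ * y * n) * r1 by group]
      exact ⟨fun h6 => by
        have h7 := mul_mem (mul_mem hr1 h6) (inv_mem hr1)
        rwa [show r1 * (r1⁻¹ * (n⁻¹ * y * n) * r1) * r1⁻¹ = n⁻¹ * y * n by group] at h7,
        fun h6 => mul_mem (mul_mem (inv_mem hr1) h6) hr1⟩
    constructor
    · intro hx
      exact (hR x).1 (mem_subgroupOf.1 ((h5 ⟨x, h2L hx⟩).1 (mem_subgroupOf.2 hx)))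
    · intro hx
      have hxR : (l : normalizer (D : Set G))⁻¹ * x * l ∈ (R1 : Subgroup _) := (hR x).2 hx
      have hxL : x ∈ L := by
        have h8 := mul_mem (mul_mem l.2 (h1L hxR)) (inv_mem l.2)
        rwa [show (l : normalizer (D : Set G)) * ((l : normalizer (D : Set G))⁻¹ * x * l)
          * (l : normalizer (D : Set G))⁻¹ = x by group] at h8
      exact mem_subgroupOf.1 ((h5 ⟨x, hxL⟩).2 (mem_subgroupOf.2 hxR))

end CfsgLib.Walter.Field.SylowKey
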