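import Cfsg.Agent.Lib.Recog.Walter.Field.SylowKey.Form

/-!
Owner: helper21. Walter, field part (B): coordinates on `P / Φ(P)` for a split configuration.
-/

set_option autoImplicit false
set_option linter.style.haveILetI false
set_option linter.unusedSectionVars false

namespace CfsgLib.Walter.Field.SylowKey

open Subgroup
open scoped commutatorElement

universe u

/-- Coordinates on `P / Φ(P)` along `k₁` and `z`. -/
structure Coord {P : Type u} [Group P] (p M : ℕ) (γ : MulAut P) (z : P) where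
  X : P →* Multiplicative (ZMod p)
  H : P →* Multiplicative (ZMod p)
  k1 : P
  Xz : X z = 1
  Hz : H z = Multiplicative.ofAdd 1
  Xk : X k1 = Multiplicative.ofAdd 1
  Hk : H k1 = 1
  γk : γ k1 = k1 ^ M
  /-- the elements over a nonzero multiple of the second axis are conjugate to powers of `z` -/
  classes : ∀ y, X y = 1 → H y ≠ 1 → ∃ (d : P) (m : ℕ), y = d * z ^ m * d⁻¹
  generated : ∀ f : P →* Multiplicative (ZMod p), f z = 1 → f k1 = 1 → f = 1
  kernel : ∀ y, X y = 1 → H y = 1 → y ∈ frattini P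
  small : ∀ (y : P) (m : ℕ), y ^ m = 1 → H y ≠ 1 → orderOf z ∣ m

variable {P : Type u} [Group P] [Finite P] {p r M : ℕ} [Fact p.Prime] {γ : MulAut P} {z ρ : P}

theorem Conf.nonempty_coord (h : Conf p r M γ z ρ) (hz : z ≠ 1) :
    Nonempty (Coord p M γ z) := by
  obtain ⟨K, hKn, hKγ, hKc, hKs⟩ := split h
  have hKz : ∀ a ∈ K, a ∈ zpowers z → a = 1 := fun a ha ha' =>
    eq_one_of_pow_eq_self h.pr (show a ^ M = a by rw [← hKγ a ha]; exact (h.fixed a).2 ha') h.M1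
  have hρK : ρ ∈ K := by
    obtain ⟨k, hk, a, ha, hka⟩ := hKs ρ
    suffices a = 1 by rw [hka, this, mul_one]; exact hk
    have hk' : k = ρ * a⁻¹ := by rw [hka, mul_inv_cancel_right]
    have hca : Commute ρ a⁻¹ := by
      obtain ⟨i, rfl⟩ := mem_zpowers_iff.1 ha
      exact (h.comm.symm.zpow_right i).inv_right
    have h1 := hKγ k hk
    rw [hk', map_mul, map_inv, h.γρ, (h.fixed a).2 ha, hca.mul_pow, mul_left_cancel_iff] at h1
    exact inv_eq_one.1 (eq_one_of_pow_eq_self h.pr h1.symm h.M1)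
  -- the commutator map
  have hconjK : ∀ (g : P), ∀ k ∈ K, g * k * g⁻¹ ∈ K := fun g k hk => hKn.conj_mem k hk g
  have hmemψ : ∀ (w : P), ∀ k ∈ K, k * w * k⁻¹ * w⁻¹ ∈ K := fun w k hk => by
    rw [show k * w * k⁻¹ * w⁻¹ = k * (w * k⁻¹ * w⁻¹) by group]
    exact mul_mem hk (hconjK w _ (inv_mem hk))
  let ψ : P → (K →* K) := fun w => MonoidHom.mk' (fun k => ⟨k * w * (k : P)⁻¹ * w⁻¹, hmemψ w k k.2⟩)
    fun k l => Subtype.ext (by
      show (k : P) * l * w * ((k : P) * l)⁻¹ * w⁻¹ = k * w * (k : P)⁻¹ * w⁻¹ * (l * w * (l : P)⁻¹ * w⁻¹)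
      rw [hKc _ (hmemψ w k k.2) _ (hmemψ w l l.2),
        show (k : P) * l * w * ((k : P) * l)⁻¹ * w⁻¹
          = (k * (l * w * (l : P)⁻¹ * w⁻¹) * (k : P)⁻¹) * (k * w * (k : P)⁻¹ * w⁻¹) by group,
        hKc _ k.2 _ (hmemψ w l l.2), mul_inv_cancel_right])
  set I : Subgroup P := (ψ z).range.map K.subtype with hI
  have hIK : I ≤ K := map_subtype_le _
  have hψmem : ∀ k ∈ K, k * z * k⁻¹ * z⁻¹ ∈ I := fun k hk => ⟨_, ⟨⟨k, hk⟩, rfl⟩, rfl⟩
  have hcardρ : Nat.card (zpowers ρ) = p := by rw [Nat.card_zpowers, orderOf_eq_prime h.ρp h.ρ1]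
  have hker : (ψ z).ker = (zpowers ρ).subgroupOf K := by
    ext k
    rw [MonoidHom.mem_ker, mem_subgroupOf, Subtype.ext_iff]
    show (k : P) * z * (k : P)⁻¹ * z⁻¹ = 1 ↔ _
    rw [mul_inv_eq_one, mul_inv_eq_iff_eq_mul]
    refine ⟨fun hk => ?_, fun hk => ?_⟩
    · obtain ⟨a, ha, b, hb, hab⟩ := h.cent k hk
      have : a ∈ K := by
        rw [show a = k * b⁻¹ by rw [hab, mul_inv_cancel_right]]
        exact mul_mem k.2 (inv_mem ((zpowers_le.2 hρK) hb))
      rw [hab, hKz a this ha, one_mul]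
      exact hb
    · obtain ⟨i, hi⟩ := mem_zpowers_iff.1 hk
      rw [← hi]
      exact (h.comm.symm.zpow_left i).eq
  have hcardI : Nat.card I * p = Nat.card K := by
    rw [hI, card_map_of_injective K.subtype_injective, ← (ψ z).ker.card_mul_index, index_ker, hker,
      Nat.card_congr (subgroupOfEquivOfLe (zpowers_le.2 hρK)).toEquiv, hcardρ, mul_comm]
  have hIz : ∀ i ∈ I, ∀ w ∈ zpowers z, w * i * w⁻¹ ∈ I := by
    rintro _ ⟨_, ⟨k, rfl⟩, rfl⟩ w hw
    have hwz : w * z = z * w := by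
      obtain ⟨j, rfl⟩ := mem_zpowers_iff.1 hw
      exact ((Commute.refl z).zpow_left j).eq
    refine ⟨_, ⟨⟨w * k * w⁻¹, hconjK w k k.2⟩, rfl⟩, ?_⟩
    show w * k * w⁻¹ * z * (w * k * w⁻¹)⁻¹ * z⁻¹ = w * (k * z * (k : P)⁻¹ * z⁻¹) * w⁻¹
    have hzw : w⁻¹ * z * w = z := by rw [mul_assoc, ← hwz, inv_mul_cancel_left]
    have hz' : w⁻¹ * z⁻¹ * w = z⁻¹ := by
      conv_rhs => rw [← hzw]
      group
    calc w * k * w⁻¹ * z * (w * k * w⁻¹)⁻¹ * z⁻¹
        = w * (k * (w⁻¹ * z * w) * (k : P)⁻¹ * (w⁻¹ * z⁻¹ * w)) * w⁻¹ := by group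
      _ = _ := by rw [hzw, hz']
  haveI hIn : I.Normal := ⟨fun i hi g => by
    obtain ⟨k, hk, a, ha, rfl⟩ := hKs g
    rw [show k * a * i * (k * a)⁻¹ = k * (a * i * a⁻¹) * k⁻¹ by group,
      hKc _ hk _ (hIK (hIz i hi a ha)), mul_inv_cancel_right]
    exact hIz i hi a ha⟩
  have hab : ∀ x y : P, ((x : P ⧸ I)) * y = y * x := fun x y => by
    have hkz : ∀ k ∈ K, Commute ((k : P) : P ⧸ I) (z : P ⧸ I) := fun k hk => by
      show _ = _
      rw [← mul_inv_eq_one, mul_inv_rev, ← mul_assoc, ← QuotientGroup.mk_inv, ← QuotientGroup.mk_inv,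
        ← QuotientGroup.mk_mul, ← QuotientGroup.mk_mul, ← QuotientGroup.mk_mul, QuotientGroup.eq_one_iff]
      exact hψmem k hk
    obtain ⟨k, hk, a, ha, rfl⟩ := hKs x
    obtain ⟨l, hl, b, hb, rfl⟩ := hKs y
    obtain ⟨i, rfl⟩ := mem_zpowers_iff.1 ha
    obtain ⟨j, rfl⟩ := mem_zpowers_iff.1 hb
    simp only [QuotientGroup.mk_mul, QuotientGroup.mk_zpow]
    have hkl : Commute ((k : P) : P ⧸ I) (l : P ⧸ I) := by
      show _ = _
      rw [← QuotientGroup.mk_mul, hKc k hk l hl, QuotientGroup.mk_mul]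
    exact ((hkl.mul_right ((hkz k hk).zpow_right j)).mul_left
      ((((hkz l hl).zpow_right i).symm).mul_right ((Commute.refl (z : P ⧸ I)).zpow_zpow i j))).eq
  -- the second coordinate
  have hzK : (z : P ⧸ K) ≠ 1 := fun h1 =>
    hz (hKz z ((QuotientGroup.eq_one_iff z).1 h1) (mem_zpowers z))
  have hdvd : ∀ {Q : Type u} [Group Q] (q : Q), IsPGroup p Q → q ≠ 1 →
      orderOf (Multiplicative.ofAdd (1 : ZMod p)) ∣ orderOf q := by
    intro Q _ q hQ hq
    obtain ⟨n, hn⟩ := hQ q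
    obtain ⟨i, -, hi⟩ := (Nat.dvd_prime_pow Fact.out).1 (orderOf_dvd_of_pow_eq_one hn)
    rw [orderOf_ofAdd_eq_addOrderOf, ZMod.addOrderOf_one, hi]
    exact dvd_pow_self p fun h0 => hq (orderOf_eq_one_iff.1 (by rw [hi, h0, pow_zero]))
  have hgenK : ∀ q : P ⧸ K, q ∈ zpowers (z : P ⧸ K) := fun q => by
    obtain ⟨x, rfl⟩ := QuotientGroup.mk_surjective q
    obtain ⟨k, hk, a, ha, rfl⟩ := hKs x
    rw [QuotientGroup.mk_mul, (QuotientGroup.eq_one_iff k).2 hk, one_mul]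
    obtain ⟨i, rfl⟩ := mem_zpowers_iff.1 ha
    exact mem_zpowers_iff.2 ⟨i, rfl⟩
  set η := monoidHomOfForallMemZpowers hgenK (hdvd (z : P ⧸ K) (h.pr.to_quotient K) hzK) with hη
  have hηz : η (z : P ⧸ K) = Multiplicative.ofAdd 1 := monoidHomOfForallMemZpowers_apply_gen _ _
  set H := η.comp (QuotientGroup.mk' K) with hH
  have hHz : H z = Multiplicative.ofAdd 1 := hηz
  have hHK : ∀ k ∈ K, H k = 1 := fun k hk => by
    rw [hH, MonoidHom.comp_apply, QuotientGroup.mk'_apply, (QuotientGroup.eq_one_iff k).2 hk, map_one]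
  -- the first coordinate
  have hIlt : ∃ k1 ∈ K, k1 ∉ I := SetLike.exists_of_lt (lt_of_le_of_ne hIK fun h1 => by
    have h2 := hcardI
    rw [h1] at h2
    exact (Fact.out : p.Prime).one_lt.ne'
      (Nat.eq_of_mul_eq_mul_left Nat.card_pos (h2.trans (mul_one _).symm)))
  obtain ⟨k1, hk1, hk1I⟩ := hIlt
  have hrel : I.relIndex K = p := by
    have h1 := relIndex_mul_index hIK
    have h2 := I.card_mul_index
    have h3 := K.card_mul_index
    rw [← h1, ← hcardI] at *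
    have h4 : Nat.card I * (I.relIndex K * K.index) = Nat.card I * (p * K.index) := by
      rw [h2, ← h3]; ring
    exact Nat.eq_of_mul_eq_mul_right (Nat.pos_of_ne_zero K.index_ne_zero_of_finite)
      (Nat.eq_of_mul_eq_mul_left Nat.card_pos h4)
  have hkp : ∀ k ∈ K, k ^ p ∈ I := fun k hk => by
    have h1 := (I.subgroupOf K).pow_index_mem (⟨k, hk⟩ : K)
    rw [show (I.subgroupOf K).index = p from hrel] at h1
    exact h1
  have hKgen : ∀ k ∈ K, ∃ j : ℤ, (k : P ⧸ I) = (k1 : P ⧸ I) ^ j := by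
    intro k hk
    haveI : Fact p.Prime := inferInstance
    have hcq : Nat.card (K.map (QuotientGroup.mk' I)) = p := by
      have h1 := relIndex_ker (f := QuotientGroup.mk' I) (K := K)
      rw [QuotientGroup.ker_mk', hrel] at h1
      exact h1.symm
    have h2 : (⟨_, mem_map_of_mem (QuotientGroup.mk' I) hk⟩ : K.map (QuotientGroup.mk' I)) ∈
        zpowers (⟨_, mem_map_of_mem (QuotientGroup.mk' I) hk1⟩ : K.map (QuotientGroup.mk' I)) :=
      mem_zpowers_of_prime_card hcq (fun h3 => hk1I ((QuotientGroup.eq_one_iff k1).1 (congrArg Subtype.val h3)))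
    obtain ⟨j, hj⟩ := mem_zpowers_iff.1 h2
    exact ⟨j, (congrArg Subtype.val hj).symm⟩
  set N : Subgroup P := I ⊔ zpowers z with hN
  haveI hNn : N.Normal := ⟨fun n hn g => by
    have h1 : ((g * n * g⁻¹ : P) : P ⧸ I) = (n : P ⧸ I) := by
      rw [QuotientGroup.mk_mul, QuotientGroup.mk_mul, hab g n, QuotientGroup.mk_inv, mul_inv_cancel_right]
    rw [← mul_inv_cancel_left n (g * n * g⁻¹)]
    exact mul_mem hn (mem_sup_left (QuotientGroup.eq.1 h1.symm))⟩
  have hNform : ∀ y ∈ N, ∃ i ∈ I, ∃ a ∈ zpowers z, y = i * a := fun y hy => by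
    obtain ⟨i, hi, a, ha, rfl⟩ := mem_sup_of_normal_left.1 hy
    exact ⟨i, hi, a, ha, rfl⟩
  have hk1N : (k1 : P ⧸ N) ≠ 1 := fun h1 => hk1I (by
    obtain ⟨i, hi, a, ha, e⟩ := hNform k1 ((QuotientGroup.eq_one_iff k1).1 h1)
    have h2 : a ∈ K := by
      rw [show a = i⁻¹ * k1 by rw [e, inv_mul_cancel_left]]
      exact mul_mem (inv_mem (hIK hi)) hk1
    rw [e, hKz a h2 ha, mul_one]
    exact hi)
  have hgenN : ∀ q : P ⧸ N, q ∈ zpowers (k1 : P ⧸ N) := fun q => by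
    obtain ⟨x, rfl⟩ := QuotientGroup.mk_surjective q
    obtain ⟨k, hk, a, ha, rfl⟩ := hKs x
    obtain ⟨j, hj⟩ := hKgen k hk
    rw [← QuotientGroup.mk_zpow, QuotientGroup.eq] at hj
    have h1 : ((k * a : P) : P ⧸ N) = ((k1 ^ j : P) : P ⧸ N) := by
      rw [QuotientGroup.mk_mul, (QuotientGroup.eq_one_iff a).2 (mem_sup_right ha), mul_one]
      exact QuotientGroup.eq.2 (mem_sup_left hj)
    rw [h1, QuotientGroup.mk_zpow]
    exact zpow_mem (mem_zpowers _) j
  set χ := monoidHomOfForallMemZpowers hgenN (hdvd (k1 : P ⧸ N) (h.pr.to_quotient N) hk1N) with hχ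
  have hχk : χ (k1 : P ⧸ N) = Multiplicative.ofAdd 1 := monoidHomOfForallMemZpowers_apply_gen _ _
  set X := χ.comp (QuotientGroup.mk' N) with hX
  have hXN : ∀ n ∈ N, X n = 1 := fun n hn => by
    rw [hX, MonoidHom.comp_apply, QuotientGroup.mk'_apply, (QuotientGroup.eq_one_iff n).2 hn, map_one]
  have hXker : ∀ y, X y = 1 → y ∈ N := fun y hy => by
    obtain ⟨j, hj⟩ := mem_zpowers_iff.1 (hgenN (y : P ⧸ N))
    have h1 : (Multiplicative.ofAdd (1 : ZMod p)) ^ j = 1 := by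
      rw [← hχk, ← map_zpow, hj]; exact hy
    rw [← orderOf_dvd_iff_zpow_eq_one, orderOf_ofAdd_eq_addOrderOf, ZMod.addOrderOf_one] at h1
    obtain ⟨j', rfl⟩ := h1
    rw [← QuotientGroup.eq_one_iff, ← hj, zpow_mul, zpow_natCast, ← QuotientGroup.mk_pow,
      (QuotientGroup.eq_one_iff _).2 (mem_sup_left (hkp k1 hk1)), one_zpow]
  have hkz' : ∀ f : P →* Multiplicative (ZMod p), ∀ i ∈ I, f i = 1 := by
    rintro f _ ⟨_, ⟨k, rfl⟩, rfl⟩
    show f ((k : P) * z * (k : P)⁻¹ * z⁻¹) = 1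
    rw [map_mul, map_mul, map_mul, map_inv, map_inv, mul_comm (f (k : P)) (f z), mul_inv_cancel_right,
      mul_inv_cancel]
  refine ⟨⟨X, H, k1, hXN z (mem_sup_right (mem_zpowers z)), hHz, hχk, hHK k1 hk1, hKγ k1 hk1, ?_, ?_, ?_, ?_⟩⟩
  · intro y hyX hyH
    obtain ⟨i, hi, a, ha, rfl⟩ := hNform y (hXker y hyX)
    obtain ⟨m, rfl⟩ := mem_powers_iff_mem_zpowers.2 ha
    have hm : ¬ p ∣ m := fun hd => hyH (by
      rw [map_mul, hHK i (hIK hi), one_mul, map_pow, hHz, ← ofAdd_nsmul, nsmul_eq_mul, mul_one,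
        (ZMod.natCast_eq_zero_iff m p).2 hd]
      rfl)
    have hzm : ∀ k : P, Commute k (z ^ m) → Commute k z := fun k hk => by
      obtain ⟨n, hn⟩ := IsPGroup.iff_card.1 (h.pr.to_subgroup (zpowers z))
      rw [Nat.card_zpowers] at hn
      have hco : (orderOf z).Coprime m := by
        rw [hn]; exact Nat.Coprime.pow_left _ ((Fact.out : p.Prime).coprime_iff_not_dvd.2 hm)
      obtain ⟨e, he⟩ := exists_pow_eq_self_of_coprime hco.symm
      rw [← he]
      exact hk.pow_right e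
    have hrange : ∀ k : P, ∀ hk : k ∈ K, ∀ n : ℕ, k * z ^ n * k⁻¹ * (z ^ n)⁻¹ ∈ I := fun k hk n => by
      rw [← QuotientGroup.eq_one_iff, QuotientGroup.mk_mul, QuotientGroup.mk_mul, QuotientGroup.mk_mul, hab,
        QuotientGroup.mk_inv, QuotientGroup.mk_inv, mul_inv_cancel_right, mul_inv_cancel]
    set J : Subgroup P := (ψ (z ^ m)).range.map K.subtype with hJ
    have hJI : J = I := by
      refine eq_of_le_of_card_ge ?_ ?_
      · rintro _ ⟨_, ⟨k, rfl⟩, rfl⟩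
        exact hrange k k.2 m
      · have hk' : (ψ (z ^ m)).ker ≤ (ψ z).ker := fun k hk => by
          rw [MonoidHom.mem_ker, Subtype.ext_iff] at hk ⊢
          change (k : P) * z ^ m * (k : P)⁻¹ * (z ^ m)⁻¹ = 1 at hk
          show (k : P) * z * (k : P)⁻¹ * z⁻¹ = 1
          rw [mul_inv_eq_one, mul_inv_eq_iff_eq_mul] at hk ⊢
          exact hzm k hk
        rw [hI, hJ, card_map_of_injective K.subtype_injective, card_map_of_injective K.subtype_injective,
          ← index_ker, ← index_ker]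
        exact Nat.le_of_dvd (Nat.pos_of_ne_zero (Subgroup.index_ne_zero_of_finite)) (index_dvd_of_le hk')
    rw [← hJI] at hi
    obtain ⟨_, ⟨k, rfl⟩, rfl⟩ := hi
    exact ⟨k, m, by show (k : P) * z ^ m * (k : P)⁻¹ * (z ^ m)⁻¹ * z ^ m = _; rw [inv_mul_cancel_right]⟩
  · intro f hfz hfk
    refine MonoidHom.ext fun x => ?_
    obtain ⟨k, hk, a, ha, rfl⟩ := hKs x
    obtain ⟨j, hj⟩ := hKgen k hk
    rw [← QuotientGroup.mk_zpow, eq_comm, QuotientGroup.eq] at hj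
    obtain ⟨i, rfl⟩ := mem_zpowers_iff.1 ha
    rw [map_mul, map_zpow, hfz, one_zpow, mul_one, show k = k1 ^ j * ((k1 ^ j)⁻¹ * k) by group, map_mul,
      map_zpow, hfk, one_zpow, one_mul, hkz' f _ hj]
    rfl
  · intro y hyX hyH
    obtain ⟨i, hi, a, ha, rfl⟩ := hNform y (hXker y hyX)
    rw [map_mul, hHK i (hIK hi), one_mul] at hyH
    obtain ⟨n, rfl⟩ := mem_zpowers_iff.1 ha
    rw [map_zpow, hHz, ← orderOf_dvd_iff_zpow_eq_one, orderOf_ofAdd_eq_addOrderOf,
      ZMod.addOrderOf_one] at hyH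
    obtain ⟨n', rfl⟩ := hyH
    refine mul_mem ?_ ?_
    · obtain ⟨_, ⟨k, rfl⟩, rfl⟩ := hi
      exact CfsgLib.PGroups.commutator_le_frattini' h.pr (commutator_mem_commutator (mem_top (k : P)) (mem_top z))
    · rw [zpow_mul, zpow_natCast]
      exact zpow_mem (CfsgLib.PGroups.pow_mem_frattini h.pr z) n'
  · intro y m hym hyH
    obtain ⟨k, hk, a, ha, rfl⟩ := hKs y
    rw [map_mul, hHK k hk, one_mul] at hyH
    obtain ⟨i, rfl⟩ := mem_powers_iff_mem_zpowers.2 ha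
    have h1 : z ^ (i * m) = 1 := hKz _ (by
      have h2 := congrArg (QuotientGroup.mk' K) hym
      rw [map_pow, map_mul, map_one] at h2
      simp only [QuotientGroup.mk'_apply, (QuotientGroup.eq_one_iff k).2 hk, one_mul] at h2
      rw [← QuotientGroup.mk_pow, ← pow_mul, QuotientGroup.eq_one_iff] at h2
      exact h2) (pow_mem (mem_zpowers z) _)
    have hi : ¬ p ∣ i := fun hd => hyH (by
      rw [map_pow, hHz, ← ofAdd_nsmul, nsmul_eq_mul, mul_one, (ZMod.natCast_eq_zero_iff i p).2 hd]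
      rfl)
    obtain ⟨n, hn⟩ := IsPGroup.iff_card.1 (h.pr.to_subgroup (zpowers z))
    rw [Nat.card_zpowers] at hn
    refine Nat.Coprime.dvd_of_dvd_mul_left ?_ (orderOf_dvd_of_pow_eq_one h1)
    rw [hn]; exact Nat.Coprime.pow_left _ ((Fact.out : p.Prime).coprime_iff_not_dvd.2 hi)

end CfsgLib.Walter.Field.SylowKey
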