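import Cfsg.Agent.Lib.PGroups.Basic
import Cfsg.Agent.Lib.PGroups.ClassTwo

/-!
Owner: helper21. Walter, field part (B): the key lemma on Sylow subgroups, first part.

A finite `p`-group `P` with an automorphism `γ` of prime order `r ∉ {2, p}` whose fixed points are
`⟨z⟩` and with `C(z) = ⟨z⟩ × ⟨ρ⟩`, `γ ρ = ρ ^ M`, is `K ⋊ ⟨z⟩` with `K` abelian and `γ = ^M` on `K`.
-/

set_option autoImplicit false
set_option linter.style.haveILetI false
set_option linter.unusedSectionVars false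

namespace CfsgLib.Walter.Field.SylowKey

open Subgroup
open scoped commutatorElement

universe u

/-- A power map fixing a nontrivial element of a `p`-group has exponent `1` modulo `p`. -/
theorem eq_one_of_pow_eq_self {P : Type u} [Group P] {p n : ℕ} [Fact p.Prime] (hP : IsPGroup p P)
    {x : P} (h : x ^ n = x) (hn : (n : ZMod p) ≠ 1) : x = 1 := by
  obtain ⟨k, hk⟩ := hP x
  obtain ⟨i, -, hi⟩ := (Nat.dvd_prime_pow Fact.out).1 (orderOf_dvd_of_pow_eq_one hk)
  by_contra hx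
  have hi0 : i ≠ 0 := fun h0 => hx (orderOf_eq_one_iff.1 (by rw [hi, h0, pow_zero]))
  have h1 : x ^ n = x ^ 1 := by rw [pow_one]; exact h
  rw [pow_eq_pow_iff_modEq, hi] at h1
  have h2 : ((n : ℕ) : ZMod p) = ((1 : ℕ) : ZMod p) :=
    (ZMod.natCast_eq_natCast_iff n 1 p).2 (h1.of_dvd (dvd_pow_self p hi0))
  rw [Nat.cast_one] at h2
  exact hn h2

/-- An automorphism of prime order `r ≠ p` has a fixed point in every invariant coset of an
invariant `p`-subgroup. -/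
theorem exists_fixed_in_coset {G : Type u} [Group G] [Finite G] {p r : ℕ} [Fact p.Prime]
    (hr : r.Prime) (hrp : r ≠ p) (γ : MulAut G) (hγr : γ ^ r = 1) (V : Subgroup G)
    (hVp : IsPGroup p V) (hV : ∀ v ∈ V, γ v ∈ V) {x : G} (hx : x⁻¹ * γ x ∈ V) :
    ∃ y : G, x⁻¹ * y ∈ V ∧ γ y = y := by
  haveI : Fact r.Prime := ⟨hr⟩
  have hA : IsPGroup r (zpowers γ) := fun b => ⟨1, by
    obtain ⟨b, hb⟩ := b
    obtain ⟨i, rfl⟩ := mem_zpowers_iff.1 hb
    refine Subtype.ext ?_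
    show (γ ^ i) ^ r ^ 1 = 1
    rw [pow_one, ← zpow_natCast (γ ^ i), ← zpow_mul, mul_comm, zpow_mul, zpow_natCast, hγr, one_zpow]⟩
  have hstep : ∀ y : G, x⁻¹ * y ∈ V → x⁻¹ * γ y ∈ V := fun y hy => by
    rw [show x⁻¹ * γ y = (x⁻¹ * γ x) * γ (x⁻¹ * y) by rw [map_mul, map_inv]; group]
    exact mul_mem hx (hV _ hy)
  have hpow : ∀ (n : ℕ) (y : G), x⁻¹ * y ∈ V → x⁻¹ * (γ ^ n) y ∈ V := by
    intro n
    induction n with
    | zero => intro y hy; simpa using hy
    | succ m ih => intro y hy; rw [pow_succ, MulAut.mul_apply]; exact ih _ (hstep y hy)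
  let C : SubMulAction (zpowers γ) G :=
    { carrier := {y | x⁻¹ * y ∈ V}
      smul_mem' := fun b y hy => by
        obtain ⟨b, hb⟩ := b
        obtain ⟨n, rfl⟩ := mem_powers_iff_mem_zpowers.2 hb
        exact hpow n y hy }
  have e : C ≃ V :=
    { toFun := fun y => ⟨x⁻¹ * y.1, y.2⟩
      invFun := fun v => ⟨x * v.1, show x⁻¹ * (x * v.1) ∈ V by rw [inv_mul_cancel_left]; exact v.2⟩
      left_inv := fun y => Subtype.ext (mul_inv_cancel_left _ _)
      right_inv := fun v => Subtype.ext (inv_mul_cancel_left _ _) }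
  have hne : ¬ r ∣ Nat.card C := by
    obtain ⟨k, hk⟩ := IsPGroup.iff_card.1 hVp
    rw [Nat.card_congr e, hk]
    exact fun h => hrp ((Nat.prime_dvd_prime_iff_eq hr Fact.out).1 (hr.dvd_of_dvd_pow h))
  obtain ⟨y, hy⟩ := hA.nonempty_fixed_point_of_prime_not_dvd_card C hne
  exact ⟨y.1, y.2, congrArg Subtype.val (hy ⟨γ, mem_zpowers γ⟩)⟩

/-- The configuration: fixed points `⟨z⟩`, and `C(z) = ⟨z⟩⟨ρ⟩`. -/
structure Conf {P : Type u} [Group P] (p r M : ℕ) (γ : MulAut P) (z ρ : P) : Prop where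
  pr : IsPGroup p P
  r_prime : r.Prime
  r_odd : r ≠ 2
  r_ne : r ≠ p
  γr : γ ^ r = 1
  Mr : ∀ x : P, x ^ (M ^ r) = x
  M1 : (M : ZMod p) ≠ 1
  fixed : ∀ x, γ x = x ↔ x ∈ zpowers z
  ρp : ρ ^ p = 1
  ρ1 : ρ ≠ 1
  γρ : γ ρ = ρ ^ M
  comm : Commute z ρ
  cent : ∀ x, Commute x z → ∃ a ∈ zpowers z, ∃ b ∈ zpowers ρ, x = a * b

namespace Conf

variable {P : Type u} [Group P] {p r M : ℕ} [Fact p.Prime] {γ : MulAut P} {z ρ : P}
  (h : Conf p r M γ z ρ)
include h

theorem γz : γ z = z := (h.fixed z).2 (mem_zpowers z)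

theorem M0 : (M : ZMod p) ≠ 0 := fun h0 => h.ρ1 (eq_one_of_pow_eq_self h.pr (h.Mr ρ) (by
  rw [Nat.cast_pow, h0, zero_pow h.r_prime.ne_zero]
  exact zero_ne_one))

theorem M_pos : 1 ≤ M := Nat.one_le_iff_ne_zero.2 fun h0 => h.M0 (by rw [h0, Nat.cast_zero])

theorem Mr' : (M : ZMod p) ^ r = 1 := by
  by_contra hne
  exact h.ρ1 (eq_one_of_pow_eq_self h.pr (h.Mr ρ) (by rwa [Nat.cast_pow]))

theorem M2 : ((M * M : ℕ) : ZMod p) ≠ 1 := fun h2 => h.M1 (by
  obtain ⟨k, hk⟩ := h.r_prime.odd_of_ne_two h.r_odd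
  have h3 := h.Mr'
  rw [hk, pow_succ, pow_mul, sq, ← Nat.cast_mul, h2, one_pow, one_mul] at h3
  exact h3)

theorem ρ_not_mem : ρ ∉ zpowers z := fun hm => h.ρ1 (eq_one_of_pow_eq_self h.pr
  (show ρ ^ M = ρ by rw [← h.γρ]; exact (h.fixed ρ).2 hm) h.M1)

theorem pow_M_inj {x : P} (hx : x ^ M = 1) : x = 1 := by
  have h1 := h.Mr x
  rw [← Nat.succ_pred_eq_of_pos h.r_prime.pos, pow_succ', pow_mul, hx, one_pow] at h1
  exact h1.symm

/-- A `(M-1)`-st root inside any finite cyclic subgroup. -/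
theorem exists_root [Finite P] {a v : P} (hv : v ∈ zpowers a) :
    ∃ w ∈ zpowers a, w ^ M = w * v := by
  obtain ⟨k, hk⟩ := IsPGroup.iff_card.1 (h.pr.to_subgroup (zpowers a))
  have hco : (Nat.card (zpowers a)).Coprime (M - 1) := by
    rw [hk]
    refine Nat.Coprime.pow_left _ (((Fact.out : p.Prime).coprime_iff_not_dvd).2 fun hd => h.M1 ?_)
    rw [← ZMod.natCast_eq_zero_iff, Nat.cast_sub h.M_pos, sub_eq_zero] at hd
    simpa using hd
  obtain ⟨w, hw⟩ := (powCoprime hco).surjective ⟨v, hv⟩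
  refine ⟨w, w.2, ?_⟩
  have hw' : (w : P) ^ (M - 1) = v := congrArg Subtype.val hw
  rw [← hw', ← pow_succ']
  congr 1
  have := h.M_pos
  omega

end Conf

/-- The conclusion. -/
def Split {P : Type u} [Group P] (M : ℕ) (γ : MulAut P) (z : P) : Prop :=
  ∃ K : Subgroup P, K.Normal ∧ (∀ x ∈ K, γ x = x ^ M) ∧ (∀ x ∈ K, ∀ y ∈ K, x * y = y * x) ∧
    ∀ x : P, ∃ k ∈ K, ∃ a ∈ zpowers z, x = k * a

section Step

variable {P : Type u} [Group P] [Finite P] {p r M : ℕ} [Fact p.Prime] {γ : MulAut P} {z ρ : P}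
  (h : Conf p r M γ z ρ)

/-- The automorphism induced on the quotient by an invariant normal subgroup. -/
noncomputable def quot (γ : MulAut P) (V : Subgroup P) [V.Normal]
    (hV : V.map (γ : P ≃* P).toMonoidHom = V) : MulAut (P ⧸ V) :=
  QuotientGroup.congr V V γ hV

theorem quot_mk (γ : MulAut P) (V : Subgroup P) [V.Normal] (hV : V.map (γ : P ≃* P).toMonoidHom = V)
    (x : P) : quot γ V hV (x : P ⧸ V) = ((γ x : P) : P ⧸ V) := rfl

include h

theorem map_eq {V : Subgroup P} (hV : ∀ v ∈ V, γ v ∈ V) : V.map (γ : P ≃* P).toMonoidHom = V := by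
  refine eq_of_le_of_card_ge ?_ (le_of_eq ?_)
  · rintro _ ⟨v, hv, rfl⟩; exact hV v hv
  · exact (Nat.card_congr (V.equivMapOfInjective _ γ.injective).toEquiv)

omit h in
theorem quot_pow (γ : MulAut P) (V : Subgroup P) [V.Normal] (hV : V.map (γ : P ≃* P).toMonoidHom = V)
    (n : ℕ) (x : P) : (quot γ V hV ^ n) (x : P ⧸ V) = (((γ ^ n) x : P) : P ⧸ V) := by
  induction n generalizing x with
  | zero => rfl
  | succ m ih => rw [pow_succ, MulAut.mul_apply, quot_mk, ih, ← MulAut.mul_apply, ← pow_succ]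

theorem quot_r (V : Subgroup P) [V.Normal] (hV : V.map (γ : P ≃* P).toMonoidHom = V) :
    quot γ V hV ^ r = 1 := by
  ext x
  obtain ⟨x, rfl⟩ := QuotientGroup.mk_surjective x
  rw [quot_pow, h.γr]; rfl

theorem quot_Mr (V : Subgroup P) [V.Normal] (x : P ⧸ V) : x ^ (M ^ r) = x := by
  obtain ⟨x, rfl⟩ := QuotientGroup.mk_surjective x
  rw [← QuotientGroup.mk_pow, h.Mr]

theorem quot_fixed (V : Subgroup P) [V.Normal] (hV : ∀ v ∈ V, γ v ∈ V) (x : P ⧸ V) :
    quot γ V (map_eq h hV) x = x ↔ x ∈ zpowers (z : P ⧸ V) := by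
  constructor
  · obtain ⟨x, rfl⟩ := QuotientGroup.mk_surjective x
    intro hx
    rw [quot_mk, eq_comm, QuotientGroup.eq] at hx
    obtain ⟨y, hy, hγy⟩ := exists_fixed_in_coset h.r_prime h.r_ne γ h.γr V (h.pr.to_subgroup V) hV hx
    rw [show (x : P ⧸ V) = (y : P ⧸ V) from QuotientGroup.eq.2 hy]
    obtain ⟨i, hi⟩ := mem_zpowers_iff.1 ((h.fixed y).1 hγy)
    exact mem_zpowers_iff.2 ⟨i, by rw [← hi]; rfl⟩
  · intro hx
    obtain ⟨i, rfl⟩ := mem_zpowers_iff.1 hx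
    rw [map_zpow, quot_mk, h.γz]

/-- Conjugation `x ↦ [x, z]` is multiplicative on the elements with a central value. -/
theorem comm_conj_pow {x v : P} (hv : v ∈ center P) (hx : x * z * x⁻¹ = v * z) (n : ℕ) :
    x ^ n * z * (x ^ n)⁻¹ = v ^ n * z := by
  induction n with
  | zero => simp
  | succ m ih =>
    rw [pow_succ', mul_inv_rev, show x * x ^ m * z * ((x ^ m)⁻¹ * x⁻¹) = x * (x ^ m * z * (x ^ m)⁻¹) * x⁻¹ by group,
      ih, show x * (v ^ m * z) * x⁻¹ = (x * v ^ m * x⁻¹) * (x * z * x⁻¹) by group, hx,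
      mem_center_iff.1 (pow_mem hv m) x, mul_inv_cancel_right, ← mul_assoc, ← pow_succ]

omit h in
theorem central_zpowers {a : P} (ha : a ∈ center P) : (zpowers a).Normal :=
  ⟨fun v hv g => by
    rw [mem_center_iff.1 (zpowers_le.2 ha hv) g, mul_inv_cancel_right]
    exact hv⟩

/-- Commutators of two lifts in a preimage with scalar action. -/
theorem comm_lift {V : Subgroup P} (hV : V ≤ center P) (a b : P)
    (ha : (a ^ M)⁻¹ * γ a ∈ V) (hb : (b ^ M)⁻¹ * γ b ∈ V) (hab : ⁅a, b⁆ ∈ V) :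
    γ ⁅a, b⁆ = ⁅a, b⁆ ^ (M * M) := by
  have hc := hV hab
  have hca : Commute (a ^ M) ((a ^ M)⁻¹ * γ a) := mem_center_iff.1 (hV ha) _
  rw [map_commutatorElement]
  have e1 : γ a = a ^ M * ((a ^ M)⁻¹ * γ a) := (mul_inv_cancel_left _ _).symm
  have e2 : γ b = b ^ M * ((b ^ M)⁻¹ * γ b) := (mul_inv_cancel_left _ _).symm
  have h1 : ∀ x y v : P, v ∈ center P → ⁅x * v, y⁆ = ⁅x, y⁆ := fun x y v hv => by
    simp only [commutatorElement_def, mul_inv_rev]
    rw [show x * v * y * (v⁻¹ * x⁻¹) * y⁻¹ = x * (v * y * v⁻¹) * x⁻¹ * y⁻¹ by group,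
      ← mem_center_iff.1 hv y, mul_inv_cancel_right]
  have h2 : ∀ x y v : P, v ∈ center P → ⁅x, y * v⁆ = ⁅x, y⁆ := fun x y v hv => by
    simp only [commutatorElement_def, mul_inv_rev]
    rw [show x * (y * v) * x⁻¹ * (v⁻¹ * y⁻¹) = x * y * (v * x⁻¹ * v⁻¹) * y⁻¹ by group,
      ← mem_center_iff.1 hv x⁻¹, mul_inv_cancel_right]
  rw [e1, e2, h1 _ _ _ (hV ha), h2 _ _ _ (hV hb)]
  have h3 : ⁅a, b ^ M⁆ = ⁅a, b⁆ ^ M := CfsgLib.PGroups.comm_pow_right_of_central hc M
  rw [CfsgLib.PGroups.comm_pow_left_of_central (by rw [h3]; exact pow_mem hc M) M, h3, ← pow_mul]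

/-- The induction hypothesis. -/
def Below (P : Type u) (p r M : ℕ) : Prop :=
  ∀ (Q : Type u) [Group Q] [Finite Q], Nat.card Q < Nat.card P →
    ∀ (γ' : MulAut Q) (z' ρ' : Q), Conf p r M γ' z' ρ' → Split M γ' z'

omit h in
theorem card_quot_lt {V : Subgroup P} (hV : V ≠ ⊥) : Nat.card (P ⧸ V) < Nat.card P := by
  rw [card_eq_card_quotient_mul_card_subgroup V]
  exact lt_mul_of_one_lt_right Nat.card_pos ((one_lt_card_iff_ne_bot V).2 hV)

omit h in
theorem mk_mem_zpowers {V : Subgroup P} [V.Normal] {a : P} (ha : a ∈ zpowers z) :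
    (a : P ⧸ V) ∈ zpowers (z : P ⧸ V) := by
  obtain ⟨i, rfl⟩ := mem_zpowers_iff.1 ha
  exact mem_zpowers_iff.2 ⟨i, rfl⟩

omit h in
theorem comm_mem_of_quot {V : Subgroup P} [V.Normal] {y : P}
    (hy : Commute (y : P ⧸ V) (z : P ⧸ V)) : y * z * y⁻¹ * z⁻¹ ∈ V := by
  rw [← QuotientGroup.eq_one_iff, QuotientGroup.mk_mul, QuotientGroup.mk_mul, QuotientGroup.mk_mul, hy.eq,
    QuotientGroup.mk_inv, QuotientGroup.mk_inv, mul_inv_cancel_right, mul_inv_cancel]

omit h in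
theorem quot_spans {V : Subgroup P} [V.Normal] {K : Subgroup (P ⧸ V)}
    (hs : ∀ x : P ⧸ V, ∃ k ∈ K, ∃ a ∈ zpowers (z : P ⧸ V), x = k * a) (x : P) :
    ∃ k ∈ K.comap (QuotientGroup.mk' V), ∃ a ∈ zpowers z, x = k * a := by
  obtain ⟨k, hk, a, ha, hx⟩ := hs x
  obtain ⟨i, rfl⟩ := mem_zpowers_iff.1 ha
  refine ⟨x * (z ^ i)⁻¹, ?_, z ^ i, zpow_mem (mem_zpowers z) i, (inv_mul_cancel_right _ _).symm⟩
  rw [Subgroup.mem_comap, QuotientGroup.mk'_apply, QuotientGroup.mk_mul, QuotientGroup.mk_inv, hx,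
    QuotientGroup.mk_zpow, mul_inv_cancel_right]
  exact hk

theorem gamma_commute {y : P} (hy : Commute y z) : Commute (γ y) z := by
  have h1 := congrArg γ hy.eq
  rwa [map_mul, map_mul, h.γz] at h1

/-- `ρ` central, and no new centraliser modulo `⟨ρ⟩`. -/
theorem split_cyclic (hρc : ρ ∈ center P)
    (hX : ∀ x : P, x * z * x⁻¹ * z⁻¹ ∈ zpowers ρ → Commute x z) : Split M γ z := by
  haveI := central_zpowers hρc
  have hV : ∀ v ∈ zpowers ρ, γ v = v ^ M := fun v hv => by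
    obtain ⟨i, rfl⟩ := mem_zpowers_iff.1 hv
    rw [map_zpow, h.γρ, ← zpow_natCast, ← zpow_mul, mul_comm, zpow_mul, zpow_natCast]
  have hV' : ∀ v ∈ zpowers ρ, γ v ∈ zpowers ρ := fun v hv => by rw [hV v hv]; exact pow_mem hv M
  set δ := quot γ (zpowers ρ) (map_eq h hV') with hδ
  have hδz : δ (z : P ⧸ zpowers ρ) = (z : P ⧸ zpowers ρ) := by rw [hδ, quot_mk, h.γz]
  set H := zpowers (z : P ⧸ zpowers ρ) with hH
  have hcen : ∀ y : P ⧸ zpowers ρ, Commute y (z : P ⧸ zpowers ρ) → y ∈ H := fun y hy => by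
    obtain ⟨y, rfl⟩ := QuotientGroup.mk_surjective y
    obtain ⟨a, ha, b, hb, rfl⟩ := h.cent y (hX y (comm_mem_of_quot hy))
    rw [QuotientGroup.mk_mul, (QuotientGroup.eq_one_iff b).2 hb, mul_one]
    exact mk_mem_zpowers ha
  have htop : H = ⊤ := by
    by_contra hne
    haveI := (h.pr.to_quotient (zpowers ρ)).isNilpotent
    have hnc : NormalizerCondition (P ⧸ zpowers ρ) := Group.normalizerCondition_of_isNilpotent
    obtain ⟨x, hx, hxH⟩ := SetLike.exists_of_lt (hnc H (lt_top_iff_ne_top.2 hne))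
    have h1 : x * (z : P ⧸ zpowers ρ) * x⁻¹ ∈ H :=
      (mem_normalizer_iff.1 hx _).1 (mem_zpowers _)
    have h2 := (quot_fixed h _ hV' _).2 h1
    rw [← hδ, map_mul, map_mul, map_inv, hδz] at h2
    have h3 : Commute (x⁻¹ * δ x) (z : P ⧸ zpowers ρ) := by
      show x⁻¹ * δ x * _ = _ * (x⁻¹ * δ x)
      calc x⁻¹ * δ x * (z : P ⧸ zpowers ρ) = x⁻¹ * (δ x * z * (δ x)⁻¹) * δ x := by group
        _ = (z : P ⧸ zpowers ρ) * (x⁻¹ * δ x) := by rw [h2]; group
    obtain ⟨y, hy, hδy⟩ := exists_fixed_in_coset h.r_prime h.r_ne δ (quot_r h _ _) H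
      ((h.pr.to_quotient _).to_subgroup H)
      (fun v hv => by rw [(quot_fixed h _ hV' v).2 hv]; exact hv) (hcen _ h3)
    refine hxH ?_
    rw [show x = y * (x⁻¹ * y)⁻¹ by group]
    exact mul_mem ((quot_fixed h _ hV' y).1 hδy) (inv_mem hy)
  refine ⟨zpowers ρ, inferInstance, hV, fun x hx y hy => ?_, fun x => ?_⟩
  · exact mem_center_iff.1 (zpowers_le.2 hρc hy) x
  · obtain ⟨i, hi⟩ := mem_zpowers_iff.1 (htop ▸ mem_top (x : P ⧸ zpowers ρ) : (x : P ⧸ zpowers ρ) ∈ H)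
    refine ⟨x * (z ^ i)⁻¹, ?_, z ^ i, zpow_mem (mem_zpowers z) i, (inv_mul_cancel_right _ _).symm⟩
    rw [← QuotientGroup.eq_one_iff, QuotientGroup.mk_mul, QuotientGroup.mk_inv, QuotientGroup.mk_zpow,
      hi, mul_inv_cancel]

/-- `ρ` central. -/
theorem split_of_rho_central (IH : Below P p r M) (hρc : ρ ∈ center P) : Split M γ z := by
  haveI := central_zpowers hρc
  by_cases hX : ∀ x : P, x * z * x⁻¹ * z⁻¹ ∈ zpowers ρ → Commute x z
  · exact split_cyclic h hρc hX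
  push Not at hX
  obtain ⟨x, hxV, hxc⟩ := hX
  have hV : ∀ v ∈ zpowers ρ, γ v = v ^ M := fun v hv => by
    obtain ⟨i, rfl⟩ := mem_zpowers_iff.1 hv
    rw [map_zpow, h.γρ, ← zpow_natCast, ← zpow_mul, mul_comm, zpow_mul, zpow_natCast]
  have hV' : ∀ v ∈ zpowers ρ, γ v ∈ zpowers ρ := fun v hv => by rw [hV v hv]; exact pow_mem hv M
  have hVc : zpowers ρ ≤ center P := zpowers_le.2 hρc
  have hp' : ∀ v ∈ zpowers ρ, v ^ p = 1 := fun v hv => by
    obtain ⟨i, rfl⟩ := mem_zpowers_iff.1 hv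
    rw [← zpow_natCast, ← zpow_mul, mul_comm, zpow_mul, zpow_natCast, h.ρp, one_zpow]
  set v := x * z * x⁻¹ * z⁻¹ with hv
  have hv1 : v ≠ 1 := fun h1 => hxc (by
    rw [hv, mul_inv_eq_one, mul_inv_eq_iff_eq_mul] at h1
    exact h1)
  have hxz : x * z * x⁻¹ = v * z := (inv_mul_cancel_right _ _).symm
  have hxn  := comm_conj_pow h (hVc hxV) hxz
  have hγx : γ x * z * (γ x)⁻¹ = v ^ M * z := by
    rw [← hV v hxV, show (γ x)⁻¹ = γ x⁻¹ by rw [map_inv]]
    nth_rewrite 1 [← h.γz]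
    rw [← map_mul, ← map_mul, hxz, map_mul, h.γz]
  have hac : Commute ((x ^ M)⁻¹ * γ x) z := by
    show _ * z = z * _
    calc (x ^ M)⁻¹ * γ x * z = (x ^ M)⁻¹ * (γ x * z * (γ x)⁻¹) * γ x := by group
      _ = (x ^ M)⁻¹ * (x ^ M * z * (x ^ M)⁻¹) * γ x := by rw [hγx, hxn]
      _ = z * ((x ^ M)⁻¹ * γ x) := by group
  obtain ⟨a1, ha1, b1, hb1, hab1⟩ := h.cent _ hac
  obtain ⟨w, hw, hwM⟩ := h.exists_root ha1
  have hwz : Commute w z := by
    obtain ⟨i, rfl⟩ := mem_zpowers_iff.1 hw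
    exact Commute.zpow_left (Commute.refl z) i
  set V := zpowers ρ with hVdef
  have hxzq : Commute (x : P ⧸ V) (z : P ⧸ V) := by
    show (x : P ⧸ V) * z = z * x
    have h1 : ((x * z * x⁻¹ : P) : P ⧸ V) = (z : P ⧸ V) := by
      rw [hxz, QuotientGroup.mk_mul, (QuotientGroup.eq_one_iff v).2 hxV, one_mul]
    rw [QuotientGroup.mk_mul, QuotientGroup.mk_mul, QuotientGroup.mk_inv, mul_inv_eq_iff_eq_mul] at h1
    exact h1
  have hxwq : Commute (x : P ⧸ V) (w : P ⧸ V) := by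
    obtain ⟨i, rfl⟩ := mem_zpowers_iff.1 hw
    rw [QuotientGroup.mk_zpow]
    exact hxzq.zpow_right i
  set u : P ⧸ V := (x : P ⧸ V) * (w : P ⧸ V) with hu
  have huz : Commute u (z : P ⧸ V) :=
    hxzq.mul_left (by show ((w : P) : P ⧸ V) * z = z * w; rw [← QuotientGroup.mk_mul, hwz.eq, QuotientGroup.mk_mul])
  have hγw : γ w = w := (h.fixed w).2 hw
  have huM : quot γ V (map_eq h hV') u = u ^ M := by
    rw [hu, map_mul, quot_mk, quot_mk, hγw, hxwq.mul_pow]
    have e : γ x = x ^ M * (a1 * b1) := by rw [← hab1, mul_inv_cancel_left]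
    rw [e, QuotientGroup.mk_mul, QuotientGroup.mk_mul, (QuotientGroup.eq_one_iff b1).2 hb1, mul_one,
      QuotientGroup.mk_pow, mul_assoc, ← QuotientGroup.mk_mul, ← QuotientGroup.mk_pow V w, hwM]
    congr 2
    obtain ⟨i, rfl⟩ := mem_zpowers_iff.1 hw
    obtain ⟨j, rfl⟩ := mem_zpowers_iff.1 ha1
    exact (Commute.zpow_zpow (Commute.refl z) j i).eq
  have hup : u ^ p = 1 := by
    have h1 : Commute (x ^ p) z := by
      have h2 := hxn p
      rw [hp' v hxV, one_mul, mul_inv_eq_iff_eq_mul] at h2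
      exact h2
    obtain ⟨a, ha, b, hb, hab⟩ := h.cent _ h1
    have hmem : u ^ p ∈ zpowers (z : P ⧸ V) := by
      rw [hu, hxwq.mul_pow, ← QuotientGroup.mk_pow, ← QuotientGroup.mk_pow, hab, QuotientGroup.mk_mul,
        (QuotientGroup.eq_one_iff b).2 hb, mul_one]
      exact mul_mem (mk_mem_zpowers ha) (mk_mem_zpowers (pow_mem hw p))
    refine eq_one_of_pow_eq_self (h.pr.to_quotient V) ?_ h.M1
    have h3 := (quot_fixed h V hV' _).2 hmem
    rwa [map_pow, huM, pow_right_comm] at h3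
  have hu1 : u ≠ 1 := fun h1 => hxc (by
    rw [hu, ← QuotientGroup.mk_mul, QuotientGroup.eq_one_iff] at h1
    have h2 : Commute (x * w) z := (mem_center_iff.1 (hVc h1) z).symm
    have h3 := h2.mul_left hwz.inv_left
    rwa [mul_inv_cancel_right] at h3)
  have hC : Conf p r M (quot γ V (map_eq h hV')) (z : P ⧸ V) u :=
    { pr := h.pr.to_quotient V
      r_prime := h.r_prime
      r_odd := h.r_odd
      r_ne := h.r_ne
      γr := quot_r h V _
      Mr := quot_Mr h V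
      M1 := h.M1
      fixed := quot_fixed h V hV'
      ρp := hup
      ρ1 := hu1
      γρ := huM
      comm := huz.symm
      cent := fun y hy => by
        obtain ⟨y, rfl⟩ := QuotientGroup.mk_surjective y
        have hy' := comm_mem_of_quot hy
        haveI : Fact p.Prime := inferInstance
        have hcard : Nat.card V = p := by
          rw [Nat.card_zpowers, orderOf_eq_prime h.ρp h.ρ1]
        have h4 : (⟨_, hy'⟩ : V) ∈ zpowers (⟨v, hxV⟩ : V) :=
          mem_zpowers_of_prime_card hcard (fun e => hv1 (congrArg Subtype.val e))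
        obtain ⟨n, hn⟩ := mem_powers_iff_mem_zpowers.2 h4
        have hn' : v ^ n = y * z * y⁻¹ * z⁻¹ := congrArg Subtype.val hn
        have h5 : Commute ((x ^ n)⁻¹ * y) z := by
          show _ * z = z * _
          calc (x ^ n)⁻¹ * y * z = (x ^ n)⁻¹ * (y * z * y⁻¹ * z⁻¹ * z) * y := by group
            _ = (x ^ n)⁻¹ * (x ^ n * z * (x ^ n)⁻¹) * y := by rw [← hn', hxn]
            _ = z * ((x ^ n)⁻¹ * y) := by group
        obtain ⟨a, ha, b, hb, hab⟩ := h.cent _ h5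
        refine ⟨((w : P ⧸ V) ^ n)⁻¹ * (a : P ⧸ V),
          mul_mem (inv_mem (pow_mem (mk_mem_zpowers hw) n)) (mk_mem_zpowers ha),
          u ^ n, pow_mem (mem_zpowers u) n, ?_⟩
        have hua : Commute (u ^ n) ((a : P) : P ⧸ V) := by
          obtain ⟨i, rfl⟩ := mem_zpowers_iff.1 ha
          rw [QuotientGroup.mk_zpow]
          exact (huz.pow_left n).zpow_right i
        have h6 : (y : P ⧸ V) = (x : P ⧸ V) ^ n * (a : P ⧸ V) := by
          rw [show y = x ^ n * (a * b) by rw [← hab, mul_inv_cancel_left], QuotientGroup.mk_mul,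
            QuotientGroup.mk_mul, (QuotientGroup.eq_one_iff b).2 hb, mul_one, QuotientGroup.mk_pow]
        rw [h6, mul_assoc, ← hua.eq, hu, hxwq.mul_pow, mul_assoc ((x : P ⧸ V) ^ n),
          ← mul_assoc ((w : P ⧸ V) ^ n)⁻¹, (((hxwq.pow_pow n n).symm).inv_left).eq, mul_assoc,
          inv_mul_cancel_left] }
  obtain ⟨K, hKn, hKγ, hKc, hKs⟩ := IH _ (card_quot_lt fun hb => h.ρ1 (zpowers_eq_bot.1 hb)) _ _ _ hC
  refine ⟨K.comap (QuotientGroup.mk' V), inferInstance, ?_, ?_, quot_spans hKs⟩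
  · intro k hk
    have hq : (k ^ M)⁻¹ * γ k ∈ V := by
      rw [← QuotientGroup.eq, QuotientGroup.mk_pow, ← quot_mk γ V (map_eq h hV')]
      exact (hKγ _ hk).symm
    set d := (k ^ M)⁻¹ * γ k with hd
    have hγk : γ k = k ^ M * d := (mul_inv_cancel_left _ _).symm
    have hkd : Commute k d := mem_center_iff.1 (hVc hq) k
    have hit : ∀ n : ℕ, (γ ^ (n + 1)) k = k ^ M ^ (n + 1) * d ^ ((n + 1) * M ^ n) := by
      intro n
      induction n with
      | zero => simp [hγk]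
      | succ m ih =>
        rw [pow_succ', MulAut.mul_apply, ih, map_mul, map_pow, map_pow, hγk, hV d hq,
          hkd.pow_left M |>.mul_pow, ← pow_mul, ← pow_mul, mul_assoc, ← pow_add, ← pow_succ']
        congr 2
        ring
    have hr1 := hit (r - 1)
    rw [Nat.sub_add_cancel h.r_prime.one_lt.le, h.γr, MulAut.one_apply, h.Mr, left_eq_mul] at hr1
    have hd1 : d = 1 := by
      rw [← orderOf_eq_one_iff]
      refine Nat.eq_one_of_dvd_coprimes (k := orderOf d) (a := p) (b := r * M ^ (r - 1)) ?_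
        (orderOf_dvd_of_pow_eq_one (hp' d hq)) (orderOf_dvd_of_pow_eq_one hr1)
      refine Nat.Coprime.mul_right ((Nat.coprime_primes Fact.out h.r_prime).2 h.r_ne.symm)
        (Nat.Coprime.pow_right _ (((Fact.out : p.Prime).coprime_iff_not_dvd).2 fun hdvd => h.M0 ?_))
      exact (ZMod.natCast_eq_zero_iff M p).2 hdvd
    rw [hγk, hd1, mul_one]
  · intro a ha b hb
    have hab : ⁅a, b⁆ ∈ V := by
      have h1 := map_commutatorElement (QuotientGroup.mk' V) a b
      rw [commutatorElement_eq_one_iff_mul_comm.2 (hKc _ ha _ hb)] at h1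
      exact (QuotientGroup.eq_one_iff _).1 h1
    have hq : ∀ k ∈ K.comap (QuotientGroup.mk' V), (k ^ M)⁻¹ * γ k ∈ V := fun k hk => by
      rw [← QuotientGroup.eq, QuotientGroup.mk_pow, ← quot_mk γ V (map_eq h hV')]
      exact (hKγ _ hk).symm
    have h1 := comm_lift h hVc a b (hq a ha) (hq b hb) hab
    rw [hV _ hab, pow_mul] at h1
    exact commutatorElement_eq_one_iff_mul_comm.1
      (h.pow_M_inj (eq_one_of_pow_eq_self h.pr h1.symm h.M1))

/-- A nontrivial element of `⟨z⟩` central. -/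
theorem split_of_fix_central (IH : Below P p r M) {z0 : P} (hz0 : z0 ∈ zpowers z) (hz1 : z0 ≠ 1)
    (hc : z0 ∈ center P) : Split M γ z := by
  haveI := central_zpowers hc
  set V := zpowers z0 with hVdef
  have hVc : V ≤ center P := zpowers_le.2 hc
  have hVz : V ≤ zpowers z := zpowers_le.2 hz0
  have hV : ∀ v ∈ V, γ v = v := fun v hv => (h.fixed v).2 (hVz hv)
  have hV' : ∀ v ∈ V, γ v ∈ V := fun v hv => by rw [hV v hv]; exact hv
  have hC : Conf p r M (quot γ V (map_eq h hV')) (z : P ⧸ V) (ρ : P ⧸ V) :=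
    { pr := h.pr.to_quotient V
      r_prime := h.r_prime
      r_odd := h.r_odd
      r_ne := h.r_ne
      γr := quot_r h V _
      Mr := quot_Mr h V
      M1 := h.M1
      fixed := quot_fixed h V hV'
      ρp := by rw [← QuotientGroup.mk_pow, h.ρp]; rfl
      ρ1 := fun h1 => h.ρ_not_mem (hVz ((QuotientGroup.eq_one_iff ρ).1 h1))
      γρ := by rw [quot_mk, h.γρ, QuotientGroup.mk_pow]
      comm := by show (z : P ⧸ V) * ρ = ρ * z; rw [← QuotientGroup.mk_mul, h.comm.eq, QuotientGroup.mk_mul]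
      cent := fun y hy => by
        obtain ⟨y, rfl⟩ := QuotientGroup.mk_surjective y
        have hy' := comm_mem_of_quot hy
        have h1 := hV _ hy'
        rw [map_mul, map_mul, map_mul, map_inv, map_inv, h.γz] at h1
        have h2 : y⁻¹ * γ y ∈ centralizer ({z} : Set P) := mem_centralizer_singleton_iff.2 (by
          calc y⁻¹ * γ y * z = y⁻¹ * (γ y * z * (γ y)⁻¹ * z⁻¹) * z * γ y := by group
            _ = z * (y⁻¹ * γ y) := by rw [h1]; group)
        obtain ⟨y', hy1, hy2⟩ := exists_fixed_in_coset h.r_prime h.r_ne γ h.γr _ (h.pr.to_subgroup _)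
          (fun v hv => mem_centralizer_singleton_iff.2
            (gamma_commute h (show Commute v z from mem_centralizer_singleton_iff.1 hv)).eq) h2
        have hy3 : Commute y' z := by
          obtain ⟨i, rfl⟩ := mem_zpowers_iff.1 ((h.fixed y').1 hy2)
          exact Commute.zpow_left (Commute.refl z) i
        have hy4 : Commute y z := by
          have h5 := hy3.mul_left
            (show Commute (y⁻¹ * y') z from mem_centralizer_singleton_iff.1 hy1).inv_left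
          rwa [show y' * (y⁻¹ * y')⁻¹ = y by group] at h5
        obtain ⟨a, ha, b, hb, rfl⟩ := h.cent y hy4
        obtain ⟨i, rfl⟩ := mem_zpowers_iff.1 hb
        exact ⟨_, mk_mem_zpowers ha, _, mem_zpowers_iff.2 ⟨i, rfl⟩, rfl⟩ }
  obtain ⟨K, hKn, hKγ, hKc, hKs⟩ := IH _ (card_quot_lt fun hb => hz1 (zpowers_eq_bot.1 hb)) _ _ _ hC
  set K1 := K.comap (QuotientGroup.mk' V) with hK1
  have hq : ∀ k ∈ K1, (k ^ M)⁻¹ * γ k ∈ V := fun k hk => by
    rw [← QuotientGroup.eq, QuotientGroup.mk_pow, ← quot_mk γ V (map_eq h hV')]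
    exact (hKγ _ hk).symm
  have hcomm : ∀ a ∈ K1, ∀ b ∈ K1, a * b = b * a := fun a ha b hb => by
    have hab : ⁅a, b⁆ ∈ V := by
      have h1 := map_commutatorElement (QuotientGroup.mk' V) a b
      rw [commutatorElement_eq_one_iff_mul_comm.2 (hKc _ ha _ hb)] at h1
      exact (QuotientGroup.eq_one_iff _).1 h1
    have h1 := comm_lift h hVc a b (hq a ha) (hq b hb) hab
    rw [hV _ hab] at h1
    exact commutatorElement_eq_one_iff_mul_comm.1 (eq_one_of_pow_eq_self h.pr h1.symm h.M2)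
  have hVK : V ≤ K1 := fun v hv => by
    rw [hK1, Subgroup.mem_comap, QuotientGroup.mk'_apply, (QuotientGroup.eq_one_iff v).2 hv]
    exact one_mem K
  let K' : Subgroup P :=
    { carrier := {k | k ∈ K1 ∧ γ k = k ^ M}
      one_mem' := ⟨one_mem _, by simp⟩
      mul_mem' := fun {a b} ha hb => ⟨mul_mem ha.1 hb.1, by
        rw [map_mul, ha.2, hb.2, Commute.mul_pow (hcomm _ ha.1 _ hb.1)]⟩
      inv_mem' := fun {a} ha => ⟨inv_mem ha.1, by rw [map_inv, ha.2, inv_pow]⟩ }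
  have hspan : ∀ x : P, ∃ k ∈ K', ∃ a ∈ zpowers z, x = k * a := fun x => by
    obtain ⟨k, hk, a, ha, rfl⟩ := quot_spans hKs x
    obtain ⟨w, hw, hwM⟩ := h.exists_root (a := z0) (hq k hk)
    have hkw : Commute k w := mem_center_iff.1 (hVc hw) k
    refine ⟨k * w, ⟨mul_mem hk (hVK hw), ?_⟩, w⁻¹ * a, mul_mem (inv_mem (hVz hw)) ha, by group⟩
    rw [map_mul, hV w hw, hkw.mul_pow, hwM]
    rw [(mem_center_iff.1 (hVc (hq k hk)) w), ← mul_assoc, mul_inv_cancel_left]
  refine ⟨K', ⟨fun k hk g => ?_⟩, fun k hk => hk.2, fun a ha b hb => hcomm a ha.1 b hb.1, hspan⟩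
  obtain ⟨k', hk', a, ha, rfl⟩ := hspan g
  have hγa := (h.fixed a).2 ha
  have h1 : a * k * a⁻¹ ∈ K' := ⟨(inferInstance : K1.Normal).conj_mem k hk.1 a, by
    rw [map_mul, map_mul, map_inv, hγa, hk.2, _root_.conj_pow]⟩
  rw [show k' * a * k * (k' * a)⁻¹ = k' * (a * k * a⁻¹) * k'⁻¹ by group, hcomm _ hk'.1 _ h1.1,
    mul_inv_cancel_right]
  exact h1

end Step

/-- The configuration splits. -/
theorem split {P : Type u} [Group P] [Finite P] {p r M : ℕ} [Fact p.Prime] {γ : MulAut P} {z ρ : P}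
    (h : Conf p r M γ z ρ) : Split M γ z := by
  induction hn : Nat.card P using Nat.strong_induction_on generalizing P with
  | _ n ih =>
  subst hn
  have IH : Below P p r M := fun Q _ _ hlt γ' z' ρ' h' => ih _ hlt h' rfl
  haveI : Nontrivial P := ⟨⟨ρ, 1, h.ρ1⟩⟩
  haveI := h.pr.center_nontrivial
  obtain ⟨k, hk⟩ := IsPGroup.iff_card.1 (h.pr.to_subgroup (center P))
  have hdvd : p ∣ Nat.card (center P) := by
    rcases k with - | j
    · rw [pow_zero] at hk
      exact absurd hk Finite.one_lt_card.ne'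
    · exact hk ▸ dvd_pow_self p j.succ_ne_zero
  obtain ⟨⟨x, hxc⟩, hx⟩ := exists_prime_orderOf_dvd_card' p hdvd
  rw [← Subgroup.orderOf_coe] at hx
  change orderOf x = p at hx
  have hxz : Commute x z := (mem_center_iff.1 hxc z).symm
  obtain ⟨a, ha, b, hb, hab⟩ := h.cent x hxz
  by_cases hb1 : b = 1
  · rw [hb1, mul_one] at hab
    exact split_of_fix_central h IH (hab ▸ ha)
      (fun h1 => (Fact.out : p.Prime).one_lt.ne' (by rw [← hx, h1, orderOf_one])) hxc
  · refine split_of_rho_central h IH ?_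
    have hγb : γ b = b ^ M := by
      obtain ⟨i, rfl⟩ := mem_zpowers_iff.1 hb
      rw [map_zpow, h.γρ, ← zpow_natCast, ← zpow_mul, mul_comm, zpow_mul, zpow_natCast]
    have hγc : γ x ∈ center P := mem_center_iff.2 fun g => by
      have h2 := congrArg γ (mem_center_iff.1 hxc (γ.symm g))
      simpa using h2
    have hba : Commute a b := by
      obtain ⟨i, rfl⟩ := mem_zpowers_iff.1 ha
      obtain ⟨j, rfl⟩ := mem_zpowers_iff.1 hb
      exact h.comm.zpow_zpow i j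
    have hd : γ x * x⁻¹ = b ^ M * b⁻¹ := by
      rw [hab, map_mul, (h.fixed a).2 ha, hγb, (hba.pow_right M).eq, hba.eq, mul_inv_rev, mul_assoc,
        mul_inv_cancel_left]
    have hne : b ^ M * b⁻¹ ≠ 1 := fun h1 =>
      hb1 (eq_one_of_pow_eq_self h.pr (mul_inv_eq_one.1 h1) h.M1)
    have hmem : b ^ M * b⁻¹ ∈ zpowers ρ := mul_mem (pow_mem hb M) (inv_mem hb)
    have hρ : (⟨ρ, mem_zpowers ρ⟩ : zpowers ρ) ∈ zpowers (⟨_, hmem⟩ : zpowers ρ) :=
      mem_zpowers_of_prime_card (p := p) (by rw [Nat.card_zpowers, orderOf_eq_prime h.ρp h.ρ1])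
        (fun e => hne (congrArg Subtype.val e))
    obtain ⟨i, hi⟩ := mem_zpowers_iff.1 hρ
    have hi' : (b ^ M * b⁻¹) ^ i = ρ := congrArg Subtype.val hi
    rw [← hi']
    exact zpow_mem (hd ▸ mul_mem hγc (inv_mem hxc)) i

end CfsgLib.Walter.Field.SylowKey
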